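import Cfsg.Agent.Lib.StdRu.Data
import Cfsg.Agent.Lib.Ru4060.Half
import Cfsg.Agent.Lib.Ru4060.Out

/-!
# The centraliser of a central involution on 4060 points

Among the fixed points of the involution, twelve are adjacent to all the others. They form an orbit of the
centraliser, and the stabiliser of the first two base points is the stabiliser of the first of them.
-/

set_option autoImplicit false
set_option maxRecDepth 100000

namespace Cfsg.Lib.StdRu

open Cfsg.Lib.Ru4060 Cfsg.Lib.CosetEnum MulAction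
open Cfsg.Lib.Ru4060.OutRu (val letters letters_lt sameW val_of_sameW val_append val_coe val_reverse
  allPts allPts_fin)

/-- The image of a point under a word. -/
theorem walk_val {w : List ℕ} (hw : letters w = true) (z : Fin 4060) :
    ((val w : grp).1 z).1 = twalk tab 3 w z.1 := by
  rw [val_coe (letters_lt hw), prm_walk (letters_lt hw)]

theorem letters_rev {w : List ℕ} (hw : letters w = true) : letters w.reverse = true := by
  rw [letters, List.all_reverse]
  exact hw

theorem walk_inv {w : List ℕ} (hw : letters w = true) (z : Fin 4060) :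
    ((val w : grp).1⁻¹ z).1 = twalk tab 3 w.reverse z.1 := by
  rw [← Subgroup.coe_inv, ← val_reverse, walk_val (letters_rev hw)]

/-- Two words move some base point differently. -/
noncomputable def diffW (a b : List ℕ) : Bool :=
  letters a && letters b && (List.range 5).any fun i => !(Nat.beq (twalk tab 3 a (bp i)) (twalk tab 3 b (bp i)))

theorem val_ne_of_diffW {a b : List ℕ} (h : diffW a b = true) : val a ≠ val b := by
  simp only [diffW, Bool.and_eq_true, List.any_eq_true, Bool.not_eq_true', ← Bool.not_eq_true, Nat.beq_eq] at h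
  obtain ⟨⟨ha, hb⟩, i, -, hi⟩ := h
  intro e
  exact hi (((walk_val ha (bpt i)).symm.trans (by rw [e])).trans (walk_val hb (bpt i)))

theorem sameW_letters {a b : List ℕ} (h : sameW a b = true) : letters a = true ∧ letters b = true := by
  simp only [sameW, Bool.and_eq_true] at h
  exact h.1

theorem bp_values : bp 0 = 0 ∧ bp 1 = 1 ∧ bp 2 = 19 := by decide +kernel

theorem mem_stab_two {x : grp} (h0 : x.1 (bpt 0) = bpt 0) (h1 : x.1 (bpt 1) = bpt 1) : x.1 ∈ stab 2 :=
  ⟨x.2, fun k hk => by interval_cases k <;> assumption⟩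

/-- The stabiliser of two points is generated by the listed words. -/
theorem stab_two_le {Γ : Subgroup (Equiv.Perm (Fin 4060))} (h : ∀ w ∈ kbWords, wordVal prm w ∈ Γ) :
    stab 2 ≤ Γ := by
  let X : Subgroup (Equiv.Perm (Fin 4060)) := Subgroup.closure ((wordVal prm) '' {u | u ∈ kbWords})
  have hsub : ∀ i, 2 ≤ i → i < 5 → wgrp (clsOf i) ≤ X := by
    intro i h1 h2
    refine Subgroup.closure_mono (Set.image_mono fun u hu => ?_)
    simp only [kbWords, Set.mem_ofPred_eq, List.mem_append]
    match i, h1, h2 with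
    | 2, _, _ => exact Or.inl (Or.inl hu)
    | 3, _, _ => exact Or.inl (Or.inr hu)
    | 4, _, _ => exact Or.inr hu
  have hle : X ≤ stab 2 := by
    refine (Subgroup.closure_le _).2 ?_
    rintro _ ⟨u, hu, rfl⟩
    simp only [kbWords, Set.mem_ofPred_eq, List.mem_append] at hu
    rcases hu with (hu | hu) | hu
    · exact wgrp_le_stab (i := 2) (by norm_num) le_rfl (Subgroup.subset_closure ⟨u, hu, rfl⟩)
    · exact wgrp_le_stab (i := 3) (by norm_num) (by norm_num) (Subgroup.subset_closure ⟨u, hu, rfl⟩)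
    · exact wgrp_le_stab (i := 4) (by norm_num) (by norm_num) (Subgroup.subset_closure ⟨u, hu, rfl⟩)
  have hX : X = stab 2 := Subgroup.eq_of_le_of_card_ge hle (by
    rw [card_stab (by norm_num), card_of_classes clsOf (by norm_num) (fun i _ h => clsOf_ok i h)
      (hle.trans (stab_pres 2)) (hle.trans inf_le_right) hsub])
  rw [← hX]
  refine (Subgroup.closure_le _).2 ?_
  rintro _ ⟨w, hw, rfl⟩
  exact h w hw

/-- The involution. -/
noncomputable def tcv : grp := val tcW

theorem tcW_letters : letters tcW = true := by decide +kernel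

theorem tcv_sq : tcv * tcv = 1 := by
  rw [tcv, ← val_append, val_of_sameW (a := tcW ++ tcW) (b := []) (by decide +kernel)]
  rfl

theorem tcv_ne : tcv ≠ 1 :=
  val_ne_of_diffW (a := tcW) (b := []) (by decide +kernel)

theorem kb_commute : (kbWords.all fun w => sameW (w ++ tcW) (tcW ++ w)) = true := by decide +kernel

theorem stab_two_commute {x : grp} (hx : x.1 ∈ stab 2) : Commute x tcv := by
  have h : stab 2 ≤ Subgroup.centralizer {tcv.1} := stab_two_le fun w hw => by
    have e := List.all_eq_true.1 kb_commute w hw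
    obtain ⟨l1, -⟩ := sameW_letters e
    have lw : letters w = true := by
      simp only [letters, List.all_append, Bool.and_eq_true] at l1 ⊢
      exact l1.1
    have e' := congrArg Subtype.val (val_of_sameW e)
    rw [val_append, val_append, Subgroup.coe_mul, Subgroup.coe_mul, val_coe (letters_lt lw)] at e'
    exact Subgroup.mem_centralizer_singleton_iff.2 e'.symm
  exact Subtype.ext (Subgroup.mem_centralizer_singleton_iff.1 (h hx))

/-! ### The fixed points and the twelve -/

/-- The listed fixed points are the fixed points. -/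
noncomputable def fixOK : Bool :=
  (fixPts.all fun a => Nat.blt a 4060 && Nat.beq (twalk tab 3 tcW a) a) &&
    allPts (fun z => cond (Nat.beq (twalk tab 3 tcW z) z) (fixPts.any fun a => Nat.beq a z) true) 4060 0

theorem fix_ok : fixOK = true := by decide +kernel

theorem mem_fixPts {a : Fin 4060} : tcv.1 a = a ↔ a.1 ∈ fixPts := by
  have h := fix_ok
  simp only [fixOK, Bool.and_eq_true, List.all_eq_true, Nat.blt_eq, Nat.beq_eq] at h
  rw [Fin.ext_iff, tcv, walk_val tcW_letters]
  refine ⟨fun e => ?_, fun ha => (h.1 _ ha).2⟩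
  have := allPts_fin h.2 a
  rw [show Nat.beq (twalk tab 3 tcW a.1) a.1 = true from Nat.beq_eq.mpr e, cond_true, List.any_eq_true] at this
  obtain ⟨b, hb, hba⟩ := this
  exact Nat.beq_eq.mp hba ▸ hb

/-- Adjacency. -/
def Near (a b : Fin 4060) : Prop := ∃ g : grp, g.1 (bpt 0) = a ∧ bit cls1.mask (g.1⁻¹ b) = true

theorem near_iff {a b : Fin 4060} {g : grp} (hg : g.1 (bpt 0) = a) :
    Near a b ↔ bit cls1.mask (g.1⁻¹ b) = true := by
  refine ⟨?_, fun h => ⟨g, hg, h⟩⟩
  rintro ⟨k, hk, h⟩
  have hx : g.1⁻¹ * k.1 ∈ stab 1 := ⟨grp.mul_mem (grp.inv_mem g.2) k.2, fun i hi => by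
    obtain rfl : i = 0 := by omega
    rw [Equiv.Perm.mul_apply, hk, ← hg]
    simp⟩
  have e := bit_first hx (k.1⁻¹ b)
  rw [Equiv.Perm.mul_apply, show k.1 (k.1⁻¹ b) = b by simp] at e
  rw [e, h]

theorem near_smul (c : grp) {a b : Fin 4060} (h : Near a b) : Near (c.1 a) (c.1 b) := by
  obtain ⟨g, hg, hb⟩ := h
  refine ⟨c * g, by rw [Subgroup.coe_mul, Equiv.Perm.mul_apply, hg], ?_⟩
  rw [Subgroup.coe_mul, mul_inv_rev, Equiv.Perm.mul_apply, show c.1⁻¹ (c.1 b) = b by simp]
  exact hb

/-- A fixed point adjacent to all other fixed points. -/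
def InO (a : Fin 4060) : Prop := tcv.1 a = a ∧ ∀ b, tcv.1 b = b → b ≠ a → Near a b

theorem fix_smul {c : grp} (hc : Commute c tcv) {a : Fin 4060} (h : tcv.1 a = a) : tcv.1 (c.1 a) = c.1 a := by
  have e := congrArg (fun x : grp => x.1 a) hc.eq
  simp only [Subgroup.coe_mul, Equiv.Perm.mul_apply, h] at e
  exact e.symm

theorem inO_smul {c : grp} (hc : Commute c tcv) {a : Fin 4060} (h : InO a) : InO (c.1 a) := by
  unfold InO at h ⊢
  refine ⟨?_, ?_⟩
  · exact fix_smul hc h.1
  intro b hb hne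
  have hcb : c.1 ((c⁻¹ : grp).1 b) = b := by
    rw [Subgroup.coe_inv, Equiv.Perm.inv_def, Equiv.apply_symm_apply]
  have hcc : Commute c⁻¹ tcv := by exact Commute.inv_left hc
  have hb' : tcv.1 ((c⁻¹ : grp).1 b) = (c⁻¹ : grp).1 b := fix_smul hcc hb
  have hne' : (c⁻¹ : grp).1 b ≠ a := fun e => hne (by rw [← e, hcb])
  have h2 : Near a ((c⁻¹ : grp).1 b) := h.2 _ hb' hne'
  have h3 := near_smul c h2
  rw [hcb] at h3
  exact h3

/-- The twelve: fixed, carried to by the centraliser, adjacent to the other fixed points. -/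
noncomputable def cliqueOK : Bool :=
  (List.range clique.length).all fun k =>
    force (clique.getD k 0) fun a => Nat.blt a 4060 &&
      letters (cliqueW.getD k []) && Nat.beq (twalk tab 3 (cliqueW.getD k []) (bp 0)) a &&
      sameW (cliqueW.getD k [] ++ tcW) (tcW ++ cliqueW.getD k []) &&
      (Nat.beq a (bp 0) || bit cls1.mask a) &&
      (fixPts.any fun b => Nat.beq b a) &&
      fixPts.all fun b => Nat.beq b a || bit cls1.mask (twalk tab 3 (cliqueW.getD k []).reverse b)

theorem clique_ok : cliqueOK = true := by decide +kernel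

/-- Every other fixed point has a fixed point not adjacent to it. -/
noncomputable def outsideOK : Bool :=
  (List.range fixPts.length).all fun i =>
    force (fixPts.getD i 0) fun a => force (fixPts.getD (fixWit.getD i 0) 0) fun b =>
      (clique.any fun c => Nat.beq c a) ||
        (letters (fixTau.getD i []) && Nat.beq (twalk tab 3 (fixTau.getD i []) (bp 0)) a &&
          Nat.blt (fixWit.getD i 0) fixPts.length && !(Nat.beq b a) &&
          !(bit cls1.mask (twalk tab 3 (fixTau.getD i []).reverse b)))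

theorem outside_ok : outsideOK = true := by decide +kernel

theorem exists_cliqueW {a : Fin 4060} (ha : a.1 ∈ clique) :
    ∃ c : grp, Commute c tcv ∧ c.1 (bpt 0) = a ∧ InO a ∧ (a ≠ bpt 0 → bit cls1.mask a = true) := by
  obtain ⟨k, hk, hka⟩ := List.getElem_of_mem ha
  have h := List.all_eq_true.1 clique_ok k (List.mem_range.2 hk)
  rw [force_eq, List.getD_eq_getElem _ _ hk, hka] at h
  simp only [Bool.and_eq_true, Bool.or_eq_true, List.any_eq_true, List.all_eq_true, Nat.beq_eq] at h
  obtain ⟨⟨⟨⟨⟨⟨-, hl⟩, h0⟩, hc⟩, hm⟩, hfx⟩, hn⟩ := h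
  set W := cliqueW.getD k []
  have hW : (val W : grp).1 (bpt 0) = a := Fin.ext ((walk_val hl _).trans h0)
  refine ⟨val W, ?_, hW, ⟨mem_fixPts.2 ?_, fun b hb hne => ?_⟩, fun hne => hm.resolve_left fun e => hne (Fin.ext e)⟩
  · have e := val_of_sameW hc
    rw [val_append, val_append] at e
    exact e.symm
  · obtain ⟨b, hb, hba⟩ := hfx
    exact hba ▸ hb
  · refine (near_iff hW).2 ?_
    rw [walk_inv hl]
    exact (hn _ (mem_fixPts.1 hb)).resolve_left fun e => hne (Fin.ext e)

theorem inO_iff {a : Fin 4060} : InO a ↔ a.1 ∈ clique := by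
  refine ⟨fun h => ?_, fun h => (exists_cliqueW h).choose_spec.2.2.1⟩
  obtain ⟨i, hi, hia⟩ := List.getElem_of_mem (mem_fixPts.1 h.1)
  have e := List.all_eq_true.1 outside_ok i (List.mem_range.2 hi)
  rw [force_eq, force_eq, List.getD_eq_getElem _ _ hi, hia] at e
  simp only [Bool.or_eq_true, Bool.and_eq_true, List.any_eq_true, Nat.beq_eq, Bool.not_eq_true',
    ← Bool.not_eq_true, Nat.blt_eq] at e
  rcases e with ⟨c, hc, hca⟩ | ⟨⟨⟨⟨hl, h0⟩, hj⟩, hne⟩, hno⟩
  · exact hca ▸ hc
  exfalso
  have hb : fixPts.getD (fixWit.getD i 0) 0 ∈ fixPts := by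
    rw [List.getD_eq_getElem _ _ hj]; exact List.getElem_mem _
  have hblt : fixPts.getD (fixWit.getD i 0) 0 < 4060 := by
    have h' := fix_ok
    simp only [fixOK, Bool.and_eq_true, List.all_eq_true, Nat.blt_eq] at h'
    exact (h'.1 _ hb).1
  have hnear := (near_iff (g := val (fixTau.getD i [])) (Fin.ext ((walk_val hl _).trans h0))).1
    (h.2 ⟨_, hblt⟩ (mem_fixPts.2 hb) fun e' => hne (congrArg Fin.val e'))
  rw [walk_inv hl] at hnear
  exact hno hnear

theorem zero_mem_clique : (bpt 0).1 ∈ clique ∧ (bpt 1).1 ∈ clique := by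
  refine ⟨?_, ?_⟩
  · show bp 0 ∈ clique
    rw [bp_values.1]; decide
  · show bp 1 ∈ clique
    rw [bp_values.2.1]; decide

/-- The partners: fixing the first point and one of the twelve, outside the centraliser. -/
noncomputable def partnerOK : Bool :=
  (clique.all fun a => Nat.beq a (bp 0) || Nat.beq a (bp 1) || partnerPts.any fun b => Nat.beq b a) &&
  (List.range partnerPts.length).all fun k =>
    force (partnerPts.getD k 0) fun a =>
      letters (partnerW.getD k []) && Nat.beq (twalk tab 3 (partnerW.getD k []) (bp 0)) (bp 0) &&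
      Nat.beq (twalk tab 3 (partnerW.getD k []) a) a && diffW (partnerW.getD k [] ++ tcW) (tcW ++ partnerW.getD k [])

theorem partner_ok : partnerOK = true := by decide +kernel

theorem stab_one_centraliser {x : grp} (hx : Commute x tcv) (h0 : x.1 (bpt 0) = bpt 0) : x.1 ∈ stab 2 := by
  refine mem_stab_two h0 ?_
  have hO := inO_iff.1 (inO_smul hx (inO_iff.2 zero_mem_clique.2))
  have h := partner_ok
  simp only [partnerOK, Bool.and_eq_true, List.all_eq_true, Bool.or_eq_true, List.any_eq_true, Nat.beq_eq,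
    List.mem_range, force_eq] at h
  obtain ⟨hcover, hk⟩ := h
  rcases hcover _ hO with (e | e) | ⟨b, hb, hba⟩
  · exfalso
    have : bpt 1 = bpt 0 := x.1.injective ((Fin.ext e).trans h0.symm)
    rw [Fin.ext_iff] at this
    exact absurd this (by decide +kernel)
  · exact Fin.ext e
  exfalso
  obtain ⟨k, hk', hkb⟩ := List.getElem_of_mem hb
  obtain ⟨⟨⟨hl, hp0⟩, hpa⟩, hd⟩ := hk k hk'
  rw [List.getD_eq_getElem _ _ hk', hkb, hba] at hpa
  set p : grp := val (partnerW.getD k [])
  have hpa' : p.1 (x.1 (bpt 1)) = x.1 (bpt 1) := Fin.ext ((walk_val hl _).trans hpa)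
  have hp0' : p.1 (bpt 0) = bpt 0 := Fin.ext ((walk_val hl _).trans hp0)
  have hq : Commute (x⁻¹ * p * x) tcv := by
    refine stab_two_commute (mem_stab_two ?_ ?_) <;>
      simp only [Subgroup.coe_mul, Subgroup.coe_inv, Equiv.Perm.mul_apply]
    · rw [h0, hp0', Equiv.Perm.inv_eq_iff_eq, h0]
    · rw [hpa']; simp
  have hpc : Commute p tcv := by
    have e := (hx.mul_left hq).mul_left hx.inv_left
    rwa [show x * (x⁻¹ * p * x) * x⁻¹ = p by group] at e
  refine val_ne_of_diffW hd ?_
  rw [val_append, val_append]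
  exact hpc.eq.symm

/-- The centraliser, as a group of permutations. -/
noncomputable def cperm : Subgroup (Equiv.Perm (Fin 4060)) := grp ⊓ Subgroup.centralizer {tcv.1}

theorem cperm_commute {x : Equiv.Perm (Fin 4060)} (hx : x ∈ cperm) : Commute (⟨x, hx.1⟩ : grp) tcv :=
  Subtype.ext (Subgroup.mem_centralizer_singleton_iff.1 hx.2)

theorem card_cperm : Nat.card cperm = 245760 := by
  have horb : orbit cperm (bpt 0) = {z : Fin 4060 | z.1 ∈ clique} := by
    ext z
    constructor
    · rintro ⟨⟨x, hx⟩, rfl⟩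
      exact inO_iff.1 (inO_smul (cperm_commute hx) (inO_iff.2 zero_mem_clique.1))
    · intro hz
      obtain ⟨c, hc, hc0, -, -⟩ := exists_cliqueW hz
      exact ⟨⟨c.1, c.2, Subgroup.mem_centralizer_singleton_iff.2 (congrArg Subtype.val hc.eq)⟩, hc0⟩
  have hst : cperm ⊓ stabilizer (Equiv.Perm (Fin 4060)) (bpt 0) = stab 2 := by
    ext x
    constructor
    · rintro ⟨hx, h0⟩
      exact stab_one_centraliser (cperm_commute hx) h0
    · intro hx
      exact ⟨⟨hx.1, Subgroup.mem_centralizer_singleton_iff.2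
        (congrArg Subtype.val (stab_two_commute (x := ⟨x, hx.1⟩) hx).eq)⟩, hx.2 0 (by norm_num)⟩
  have hn : {z : Fin 4060 | z.1 ∈ clique}.ncard = 12 := by
    rw [← Set.ncard_image_of_injective _ Fin.val_injective]
    have hb : ∀ a ∈ clique, a < 4060 := by decide +kernel
    have e : Fin.val '' {z : Fin 4060 | z.1 ∈ clique} = (clique.toFinset : Set ℕ) := by
      ext a
      simp only [Set.mem_image, List.coe_toFinset]
      exact ⟨fun ⟨z, hz, e⟩ => e ▸ hz, fun ha => ⟨⟨a, hb a ha⟩, ha, rfl⟩⟩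
    rw [e, Set.ncard_coe_finset]
    decide +kernel
  rw [card_step cperm (bpt 0), horb, hst, hn, card_stab (by norm_num)]
  decide +kernel

theorem card_centralizer : Nat.card (Subgroup.centralizer ({tcv} : Set grp)) = 245760 := by
  have e : Subgroup.centralizer ({tcv} : Set grp) = cperm.subgroupOf grp := by
    ext x
    rw [Subgroup.mem_subgroupOf, Subgroup.mem_centralizer_singleton_iff]
    refine ⟨fun h => ⟨x.2, Subgroup.mem_centralizer_singleton_iff.2 (congrArg Subtype.val h)⟩,
      fun h => Subtype.ext (Subgroup.mem_centralizer_singleton_iff.1 h.2)⟩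
  rw [e, Nat.card_congr (Subgroup.subgroupOfEquivOfLe (show cperm ≤ grp from inf_le_left)).toEquiv, card_cperm]

/-- An element of prime power order is conjugate into a subgroup of full prime power order. -/
theorem exists_conj_mem {G : Type*} [Group G] [Finite G] {p k : ℕ} [Fact p.Prime] (C : Subgroup G)
    (hC : p ^ k ∣ Nat.card C) (hG : ¬ p ^ (k + 1) ∣ Nat.card G) {x : G}
    (hx : IsPGroup p (Subgroup.zpowers x)) : ∃ g : G, g * x * g⁻¹ ∈ C := by
  obtain ⟨Q, hQ⟩ := Sylow.exists_subgroup_card_pow_prime p hC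
  have hk : (Nat.card G).factorization p = k := by
    have h1 : p ^ k ∣ Nat.card G := hC.trans C.card_subgroup_dvd_card
    rw [(Fact.out : p.Prime).pow_dvd_iff_le_factorization Nat.card_pos.ne'] at h1 hG
    omega
  let S : Sylow p G := Sylow.ofCard (Q.map C.subtype) (by
    rw [Subgroup.card_map_of_injective C.subtype_injective, hQ, hk])
  obtain ⟨P, hP⟩ := hx.exists_le_sylow
  obtain ⟨g, hg⟩ := MulAction.exists_smul_eq G P S
  refine ⟨g, ?_⟩
  have h : g * x * g⁻¹ ∈ ((g • P : Sylow p G) : Subgroup G) := by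
    rw [Sylow.coe_subgroup_smul]
    exact ⟨x, hP (Subgroup.mem_zpowers x), rfl⟩
  rw [hg] at h
  obtain ⟨q, -, hq⟩ := (show g * x * g⁻¹ ∈ Q.map C.subtype from h)
  exact hq ▸ q.2

/-- An involution is conjugate into the stabiliser of the pair of the first two base points. -/
theorem exists_conj_pair {x : grp} (hx : x * x = 1) : ∃ g : grp,
    ((g * x * g⁻¹).1 (bpt 0) = bpt 0 ∧ (g * x * g⁻¹).1 (bpt 1) = bpt 1) ∨
      ((g * x * g⁻¹).1 (bpt 0) = bpt 1 ∧ (g * x * g⁻¹).1 (bpt 1) = bpt 0) := by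
  have : Fact (Nat.Prime 2) := ⟨Nat.prime_two⟩
  have hP : IsPGroup 2 (Subgroup.zpowers x) := by
    refine IsPGroup.iff_card.2 ?_
    rw [Nat.card_zpowers]
    obtain ⟨i, -, hi⟩ := (Nat.dvd_prime_pow Nat.prime_two (m := 1)).1 (orderOf_dvd_of_pow_eq_one (x := x) (by rw [pow_one, pow_two]; exact hx))
    exact ⟨i, hi⟩
  obtain ⟨g, hg⟩ := exists_conj_mem (k := 14) (Subgroup.centralizer ({tcv} : Set grp))
    (by rw [card_centralizer]; norm_num) (by rw [card_grp]; norm_num) hP
  have hc : Commute (g * x * g⁻¹) tcv := Subgroup.mem_centralizer_singleton_iff.1 hg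
  by_cases hmv : ∀ a : Fin 4060, a.1 ∈ clique → (g * x * g⁻¹).1 a = a
  · exact ⟨g, Or.inl ⟨hmv _ zero_mem_clique.1, hmv _ zero_mem_clique.2⟩⟩
  push Not at hmv
  obtain ⟨a, ha, hne⟩ := hmv
  obtain ⟨c, hcc, hc0, -, -⟩ := exists_cliqueW ha
  set y : grp := c⁻¹ * (g * x * g⁻¹) * c with hy
  have hyy : y * y = 1 := by
    calc y * y = c⁻¹ * g * (x * x) * g⁻¹ * c := by rw [hy]; group
      _ = 1 := by rw [hx]; group
  have hyc : Commute y tcv := (hcc.inv_left.mul_left hc).mul_left hcc
  have hb : InO (y.1 (bpt 0)) := inO_smul hyc (inO_iff.2 zero_mem_clique.1)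
  have hb0 : y.1 (bpt 0) ≠ bpt 0 := fun e => hne (by
    rw [hy, Subgroup.coe_mul, Subgroup.coe_mul, Subgroup.coe_inv, Equiv.Perm.mul_apply, Equiv.Perm.mul_apply,
      Equiv.Perm.inv_eq_iff_eq, hc0] at e
    exact e)
  obtain ⟨-, -, -, -, hmask⟩ := exists_cliqueW (inO_iff.1 hb)
  obtain ⟨k, hk, hk1⟩ := cls1_ok.toLvlOK.root_conn (hmask hb0)
  have hks := wgrp_le_stab (i := 1) (by norm_num) le_rfl hk
  rw [show (⟨cls1.root, cls1_ok.root_lt⟩ : Fin 4060) = bpt 1 from Fin.ext cls1_ok.root_eq] at hk1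
  have hk0 : k (bpt 0) = bpt 0 := hks.2 0 Nat.one_pos
  refine ⟨(⟨k, hks.1⟩ : grp)⁻¹ * c⁻¹ * g, Or.inr ?_⟩
  rw [show (⟨k, hks.1⟩ : grp)⁻¹ * c⁻¹ * g * x * ((⟨k, hks.1⟩ : grp)⁻¹ * c⁻¹ * g)⁻¹ =
    (⟨k, hks.1⟩ : grp)⁻¹ * y * ⟨k, hks.1⟩ by rw [hy]; group]
  simp only [Subgroup.coe_mul, Subgroup.coe_inv, Equiv.Perm.mul_apply, Equiv.Perm.inv_eq_iff_eq, hk1, hk0]
  refine ⟨trivial, ?_⟩
  rw [← Equiv.Perm.mul_apply, ← Subgroup.coe_mul, hyy, Subgroup.coe_one, Equiv.Perm.one_apply]

end Cfsg.Lib.StdRu
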