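import Cfsg.Agent.Lib.StdRu.Enum
import Cfsg.Agent.Lib.RuMult.Multiplier

/-!
# The involutions of the double cover

An involution of the simple group either is conjugate to the fixed one, or its preimages square to the
central involution.
-/

set_option autoImplicit false
set_option maxRecDepth 100000

namespace Cfsg.Lib.StdRu

open Cfsg.Spor Cfsg.Lib.RuMin Cfsg.Lib.RuMult Cfsg.Lib.Ru4060 Cfsg.Lib.CosetEnum
open Cfsg.Lib.Ru4060.OutRu (val letters sameW val_of_sameW val_append val_reverse allPts_fin)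

/-- The double cover. -/
abbrev DoubleRu : Type := ↥(commutator fourRu)

/-- The central involution. -/
noncomputable def zH : DoubleRu := ⟨negW, negW_mem⟩

/-- The element of a word. -/
noncomputable def wH (w : List ℕ) : DoubleRu := ⟨lw w, lw_mem w⟩

/-- The map to the simple group. -/
noncomputable def prH : DoubleRu →* grp := pr.comp (commutator fourRu).subtype

theorem prH_wH {w : List ℕ} (hw : letters w = true) : prH (wH w) = val w := pr_lw hw

theorem wH_append (a b : List ℕ) : wH (a ++ b) = wH b * wH a := Subtype.ext (lw_append a b)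

theorem wH_replicate (w : List ℕ) (n : ℕ) : wH (List.replicate n w).flatten = wH w ^ n :=
  Subtype.ext (by rw [SubmonoidClass.coe_pow]; exact lw_replicate w n)

theorem wH_of_sameH {a b : List ℕ} (h : sameH a b = true) : wH a = wH b := Subtype.ext (sameH_spec h)

theorem zH_eq : zH = wH [0, 0] := rfl

theorem zH_ne : zH ≠ 1 := fun h => negW_ne (congrArg Subtype.val h)

theorem zH_sq : zH * zH = 1 := Subtype.ext negW_mul_self

theorem zH_comm (a : DoubleRu) : a * zH = zH * a :=
  Subtype.ext (Subgroup.mem_center_iff.1 negW_center a)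

theorem prH_zH : prH zH = 1 := pr_of_mem_center negW_center

theorem prH_eq_one {a : DoubleRu} (h : prH a = 1) : a = 1 ∨ a = zH := by
  obtain ⟨p, hp⟩ := stem_ker_ru proj proj_stem
  have hk : ∀ b : DoubleRu, prH b = 1 → b ∈ proj.ker := fun b hb =>
    (QuotientGroup.eq_one_iff _).2 (mem_center_of_pr hb)
  obtain ⟨u, hu⟩ := hp ⟨a, hk a h⟩
  obtain ⟨v, hv⟩ := hp ⟨zH, hk zH prH_zH⟩
  have two : ∀ q : Multiplicative (ZMod 2), q = 1 ∨ q = Multiplicative.ofAdd 1 := by decide
  rcases two u with rfl | rfl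
  · rw [map_one] at hu
    exact Or.inl (congrArg Subtype.val hu).symm
  rcases two v with rfl | rfl
  · rw [map_one] at hv
    exact absurd (congrArg Subtype.val hv).symm zH_ne
  · exact Or.inr (congrArg Subtype.val (hu.symm.trans hv))

theorem prH_surjective : Function.Surjective prH := fun x => by
  obtain ⟨f, rfl⟩ := pr_surjective x
  obtain ⟨d, hd, c, hc, rfl⟩ := exists_commutator_center f
  exact ⟨⟨d, hd⟩, by rw [map_mul, pr_of_mem_center hc, mul_one]; rfl⟩

theorem prH_eq {a b : DoubleRu} (h : prH a = prH b) : b = a ∨ b = a * zH := by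
  rcases prH_eq_one (a := a⁻¹ * b) (by rw [map_mul, map_inv, h, inv_mul_cancel]) with e | e
  · exact Or.inl (inv_mul_eq_one.1 e).symm
  · exact Or.inr (by rw [← e, mul_inv_cancel_left])

theorem mul_zH_sq (a : DoubleRu) : a * zH * (a * zH) = a * a := by
  calc a * zH * (a * zH) = a * (zH * a) * zH := by group
    _ = a * a * (zH * zH) := by rw [← zH_comm]; group
    _ = a * a := by rw [zH_sq, mul_one]

/-! ### The sixteen and the candidates -/

theorem sW_facts {i : ℕ} (hi : i < 16) : letters (sW i) = true ∧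
    (∀ b < 3, (val (sW i) : grp).1 (bpt b) = bpt b) ∧ ∀ k < 16, i ≠ k → val (sW i) ≠ val (sW k) := by
  have h := List.all_eq_true.1 stab_ok i (List.mem_range.2 hi)
  simp only [Bool.and_eq_true, List.all_eq_true, List.mem_range, Bool.or_eq_true, Nat.beq_eq] at h
  obtain ⟨⟨hl, hf⟩, hd⟩ := h
  exact ⟨hl, fun b hb => Fin.ext ((walk_val hl _).trans (hf b hb)),
    fun k hk hne => val_ne_of_diffW ((hd k hk).resolve_left hne)⟩

theorem exists_sW {x : grp} (hx : x.1 ∈ stab 3) : ∃ i < 16, x = val (sW i) := by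
  let f : Fin 16 → stab 3 := fun i =>
    ⟨(val (sW i) : grp).1, (val (sW i) : grp).2, fun b hb => (sW_facts i.2).2.1 b hb⟩
  have hf : Function.Bijective f := by
    refine (Nat.bijective_iff_injective_and_card f).2 ⟨fun i k e => Fin.ext ?_, ?_⟩
    · by_contra hne
      exact (sW_facts i.2).2.2 k k.2 hne (Subtype.ext (congrArg (fun a : stab 3 => a.1) e))
    · rw [Nat.card_fin, card_stab (by norm_num)]
      decide +kernel
  obtain ⟨i, hi⟩ := hf.2 ⟨x.1, hx⟩
  exact ⟨i, i.2, Subtype.ext (congrArg (fun a : stab 3 => a.1) hi).symm⟩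

theorem bit_second {x : Equiv.Perm (Fin 4060)} (hx : x ∈ stab 2) : bit cls2.mask (x (bpt 2)) = true := by
  rw [clsOK_get cls2_ok.cls _ (Nat.zero_le _) (by rw [Nat.zero_add]; exact (x (bpt 2)).2),
    inClass_smul (stab_pres 2 hx) (by norm_num) hx.2]
  exact bpt_class ⟨2, by norm_num⟩

/-- The other case. -/
def RootCase (x : grp) : Prop := ∃ f : DoubleRu, prH f = x ∧ f * f = zH ∧ ¬ Commute x (val fiveW)

theorem enum_core {pre : List ℕ} {orb : ℕ} {reps : List ℕ} {repW : List (List ℕ)} {verd : List ℕ}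
    {conjW : List (List ℕ)} {a b : ℕ} (ha : a < 2) (hb : b < 2) (hl : letters pre = true)
    (hp0 : twalk tab 3 pre (bp 0) = bp a) (hp1 : twalk tab 3 pre (bp 1) = bp b)
    (hcover : coverOK pre orb reps = true) (hrep : repOK (bp a) (bp b) reps repW = true)
    (hv : verdictOK repW verd conjW 0 107 = true) (hlen : reps.length ≤ 107)
    {x : grp} (hx : x * x = 1) (hx1 : x ≠ 1) (h0 : x.1 (bpt 0) = bpt a) (h1 : x.1 (bpt 1) = bpt b) :
    (∃ h : grp, x = h * tcv * h⁻¹) ∨ RootCase x := by
  -- the coset of the stabiliser of two points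
  have hm : ((val pre : grp)⁻¹ * x).1 ∈ stab 2 := by
    refine mem_stab_two ?_ ?_ <;>
      rw [Subgroup.coe_mul, Subgroup.coe_inv, Equiv.Perm.mul_apply, Equiv.Perm.inv_eq_iff_eq]
    · rw [h0]; exact (Fin.ext ((walk_val hl _).trans hp0)).symm
    · rw [h1]; exact (Fin.ext ((walk_val hl _).trans hp1)).symm
  have hz := bit_second hm
  rw [Subgroup.coe_mul, Subgroup.coe_inv, Equiv.Perm.mul_apply, walk_inv hl] at hz
  have hc := allPts_fin hcover (x.1 (bpt 2))
  rw [hz, cond_true, force_eq, force_eq, List.any_eq_true] at hc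
  obtain ⟨r, hr, hrz⟩ := hc
  rw [Nat.beq_eq] at hrz
  obtain ⟨j, hj, hjr⟩ := List.getElem_of_mem hr
  set i := nib orb (x.1 (bpt 2)).1
  have hi : i < 16 := Nat.lt_succ_of_le Nat.and_le_right
  obtain ⟨hsl, hsf, -⟩ := sW_facts hi
  set s : grp := val (sW i) with hs
  have hsinv : ∀ c < 3, s.1⁻¹ (bpt c) = bpt c := fun c hc' => by
    rw [Equiv.Perm.inv_eq_iff_eq, hsf c hc']
  have hr' := List.all_eq_true.1 hrep j (List.mem_range.2 hj)
  simp only [Bool.and_eq_true, Nat.beq_eq] at hr'
  obtain ⟨⟨⟨hul, hu0⟩, hu1⟩, hu2⟩ := hr'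
  set u : grp := val (repW.getD j []) with hu
  set y : grp := s * x * s⁻¹ with hy
  have hy0 : y.1 (bpt 0) = bpt a := by
    simp only [hy, Subgroup.coe_mul, Subgroup.coe_inv, Equiv.Perm.mul_apply, hsinv 0 (by norm_num), h0]
    exact hsf a (by omega)
  have hy1 : y.1 (bpt 1) = bpt b := by
    simp only [hy, Subgroup.coe_mul, Subgroup.coe_inv, Equiv.Perm.mul_apply, hsinv 1 (by norm_num), h1]
    exact hsf b (by omega)
  have hy2 : (y.1 (bpt 2)).1 = r := by
    simp only [hy, Subgroup.coe_mul, Subgroup.coe_inv, Equiv.Perm.mul_apply, hsinv 2 (by norm_num)]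
    exact (walk_val hsl _).trans hrz.symm
  have hq : (u⁻¹ * y).1 ∈ stab 3 := by
    refine ⟨(u⁻¹ * y).2, fun k hk => ?_⟩
    rw [Subgroup.coe_mul, Subgroup.coe_inv, Equiv.Perm.mul_apply, Equiv.Perm.inv_eq_iff_eq]
    interval_cases k
    · rw [hy0]; exact (Fin.ext ((walk_val hul _).trans hu0)).symm
    · rw [hy1]; exact (Fin.ext ((walk_val hul _).trans hu1)).symm
    · refine Fin.ext ?_
      rw [hy2]
      refine Eq.symm ((walk_val hul _).trans (hu2.trans ?_))
      rw [List.getD_eq_getElem _ _ hj, hjr]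
  obtain ⟨i', hi', e⟩ := exists_sW hq
  set cw := sW i' ++ repW.getD j [] with hcw
  have hcl : letters cw = true := letters_append (sW_facts hi').1 hul
  have hval : val cw = y := by
    rw [hcw, val_append, ← e, mul_inv_cancel_left]
  have hyy : y * y = 1 := by
    calc y * y = s * (x * x) * s⁻¹ := by rw [hy]; group
      _ = 1 := by rw [hx]; group
  have hy_ne : y ≠ 1 := fun h => hx1 (by
    calc x = s⁻¹ * y * s := by rw [hy]; group
      _ = 1 := by rw [h]; group)
  simp only [verdictOK, force_eq, List.all_eq_true, List.mem_range] at hv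
  have hleaf := hv j (by omega) i' hi'
  rw [show Nat.add 0 j = j from Nat.zero_add j, ← hcw] at hleaf
  generalize Nat.land (Nat.shiftRight (verd.getD j 0) (Nat.mul 8 i')) 255 = code at hleaf
  unfold leafOK at hleaf
  cases e0 : Nat.beq code 0 <;> rw [e0] at hleaf
  swap
  · exfalso
    refine val_ne_of_diffW hleaf ?_
    rw [val_append, hval, hyy]
    rfl
  rw [cond_false] at hleaf
  cases e1 : Nat.beq code 1 <;> rw [e1] at hleaf
  swap
  · exfalso
    exact hy_ne (hval ▸ val_of_sameW hleaf)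
  rw [cond_false] at hleaf
  cases e2 : Nat.beq code 2 <;> rw [e2] at hleaf
  · rw [cond_false, force_eq] at hleaf
    have e' := val_of_sameW hleaf
    rw [val_append, val_append, hval] at e'
    set h : grp := val (conjW.getD (Nat.sub code 3) [])
    refine Or.inl ⟨s⁻¹ * h, ?_⟩
    calc x = s⁻¹ * (y * h) * h⁻¹ * s := by rw [hy]; group
      _ = s⁻¹ * (h * tcv) * h⁻¹ * s := by rw [← e']; rfl
      _ = s⁻¹ * h * tcv * (s⁻¹ * h)⁻¹ := by group
  · rw [cond_true, Bool.and_eq_true] at hleaf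
    refine Or.inr ⟨(wH (sW i))⁻¹ * wH cw * wH (sW i), ?_, ?_, fun hcom => ?_⟩
    · rw [map_mul, map_mul, map_inv, prH_wH hsl, prH_wH hcl, hval, ← hs, hy]
      group
    · have e2' := wH_of_sameH hleaf.1
      rw [wH_append, ← zH_eq] at e2'
      calc _ = (wH (sW i))⁻¹ * (wH cw * wH cw) * wH (sW i) := by group
        _ = zH := by rw [e2', mul_assoc, ← zH_comm, inv_mul_cancel_left]
    · refine val_ne_of_diffW (List.all_eq_true.1 hleaf.2 i (List.mem_range.2 hi)) ?_
      simp only [fiveConj, val_append, val_reverse, hval, ← hs, hy]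
      calc s * (val fiveW * s⁻¹) * (s * x * s⁻¹) = s * (val fiveW * x) * s⁻¹ := by group
        _ = s * (x * val fiveW) * s⁻¹ := by rw [hcom.eq]
        _ = s * x * s⁻¹ * (s * (val fiveW * s⁻¹)) := by group

theorem swap_facts : letters swapW = true ∧ twalk tab 3 swapW (bp 0) = bp 1 ∧ twalk tab 3 swapW (bp 1) = bp 0 := by
  decide +kernel

/-- The involutions keeping the pair. -/
theorem pair_cases {x : grp} (hx : x * x = 1) (hx1 : x ≠ 1)
    (h : (x.1 (bpt 0) = bpt 0 ∧ x.1 (bpt 1) = bpt 1) ∨ (x.1 (bpt 0) = bpt 1 ∧ x.1 (bpt 1) = bpt 0)) :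
    (∃ h : grp, x = h * tcv * h⁻¹) ∨ RootCase x := by
  rcases h with ⟨h0, h1⟩ | ⟨h0, h1⟩
  · exact enum_core (pre := []) (by norm_num) (by norm_num) rfl rfl rfl cover0_ok rep0_ok verdict0_ok len_ok.1
      hx hx1 h0 h1
  · exact enum_core (a := 1) (b := 0) (by norm_num) (by norm_num) swap_facts.1 swap_facts.2.1 swap_facts.2.2
      cover1_ok rep1_ok verdict1_ok len_ok.2 hx hx1 h0 h1

/-- The lift of the fixed involution. -/
noncomputable def tH : DoubleRu := wH tcW

theorem prH_tH : prH tH = tcv := prH_wH tcW_letters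

theorem tH_sq : tH * tH = 1 := by
  rw [tH, ← wH_append, wH_of_sameH (a := tcW ++ tcW) (b := []) (by decide +kernel)]
  rfl

theorem sq_of_conj {h : grp} {f : DoubleRu} (hf : prH f = h * tcv * h⁻¹) : f * f = 1 := by
  obtain ⟨k, rfl⟩ := prH_surjective h
  have e : prH f = prH (k * tH * k⁻¹) := by rw [hf, map_mul, map_mul, map_inv, prH_tH]
  have h2 : k * tH * k⁻¹ * (k * tH * k⁻¹) = 1 := by
    calc _ = k * (tH * tH) * k⁻¹ := by group
      _ = 1 := by rw [tH_sq]; group
  rcases prH_eq e.symm with rfl | rfl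
  · exact h2
  · rw [mul_zH_sq, h2]

/-- An involution other than the central one is conjugate to one of two. -/
theorem involution_conj {y : DoubleRu} (hy : y * y = 1) (h1 : y ≠ 1) (hz : y ≠ zH) :
    ∃ k : DoubleRu, k * y * k⁻¹ = tH ∨ k * y * k⁻¹ = tH * zH := by
  have hx : prH y * prH y = 1 := by rw [← map_mul, hy, map_one]
  have hx1 : prH y ≠ 1 := fun h => (prH_eq_one h).elim h1 hz
  obtain ⟨g, hg⟩ := exists_conj_pair hx
  obtain ⟨k, rfl⟩ := prH_surjective g
  rw [← map_inv, ← map_mul, ← map_mul] at hg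
  set y' := k * y * k⁻¹ with hy'
  have hyy : y' * y' = 1 := by
    calc y' * y' = k * (y * y) * k⁻¹ := by rw [hy']; group
      _ = 1 := by rw [hy]; group
  have hne : prH y' ≠ 1 := fun h => hx1 (by
    rw [hy', map_mul, map_mul, map_inv, mul_inv_eq_one] at h
    exact mul_left_cancel (h.trans (mul_one _).symm))
  rcases pair_cases (x := prH y') (by rw [← map_mul, hyy, map_one]) hne hg with ⟨h, e⟩ | ⟨f, hf, hff, -⟩
  · obtain ⟨m, rfl⟩ := prH_surjective h
    refine ⟨m⁻¹ * k, ?_⟩
    have e' : prH tH = prH (m⁻¹ * k * y * (m⁻¹ * k)⁻¹) := by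
      rw [show m⁻¹ * k * y * (m⁻¹ * k)⁻¹ = m⁻¹ * y' * m by rw [hy']; group, map_mul, map_mul, map_inv, e, prH_tH]
      group
    rcases prH_eq e' with h' | h'
    · exact Or.inl h'
    · exact Or.inr h'
  · exfalso
    refine zH_ne ?_
    rcases prH_eq hf with h' | h'
    · rw [← hff, ← hyy, h']
    · rw [← hff, ← hyy, h', mul_zH_sq]

end Cfsg.Lib.StdRu
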