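import Cfsg.Agent.Lib.StdRu.EnumDefs

/-!
# The checks, evaluated
-/

set_option autoImplicit false
set_option maxRecDepth 100000

namespace Cfsg.Lib.StdRu

open Cfsg.Lib.Ru4060

theorem stab_ok : stabOK = true := by decide +kernel

theorem cover0_ok : coverOK [] orbIdx0 reps0 = true := by decide +kernel

theorem cover1_ok : coverOK swapW orbIdx1 reps1 = true := by decide +kernel

theorem rep0_ok : repOK (bp 0) (bp 1) reps0 repW0 = true := by decide +kernel

theorem rep1_ok : repOK (bp 1) (bp 0) reps1 repW1 = true := by decide +kernel

theorem verdict0_ok : verdictOK repW0 verdict0 conjW0 0 107 = true := by decide +kernel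

theorem verdict1_ok : verdictOK repW1 verdict1 conjW1 0 107 = true := by decide +kernel

theorem len_ok : reps0.length ≤ 107 ∧ reps1.length ≤ 107 := by decide +kernel

end Cfsg.Lib.StdRu
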