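import Cfsg.Agent.Lib.StdRu.Lifts
import Cfsg.Agent.Lib.StdRu.Centraliser

/-!
# Checks for the involutions keeping the pair of the first two base points
-/

set_option autoImplicit false
set_option maxRecDepth 100000

namespace Cfsg.Lib.StdRu

open Cfsg.Lib.Ru4060 Cfsg.Lib.CosetEnum
open Cfsg.Lib.Ru4060.OutRu (letters sameW allPts)

/-- One of the sixteen. -/
def sW (i : ℕ) : List ℕ := stabW.getD i []

/-- A conjugate of the element of order five. -/
def fiveConj (k : ℕ) : List ℕ := (sW k).reverse ++ fiveW ++ sW k

/-- The sixteen fix three base points and are different. -/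
noncomputable def stabOK : Bool :=
  (List.range 16).all fun i =>
    letters (sW i) && ((List.range 3).all fun b => Nat.beq (twalk tab 3 (sW i) (bp b)) (bp b)) &&
      (List.range 16).all fun k => Nat.beq i k || diffW (sW i) (sW k)

/-- The possible images of the third base point lead to representatives. -/
noncomputable def coverOK (pre : List ℕ) (orb : ℕ) (reps : List ℕ) : Bool :=
  allPts (fun z => cond (bit cls2.mask (twalk tab 3 pre.reverse z))
    (force (nib orb z) fun i => force (twalk tab 3 (sW i) z) fun r => reps.any fun q => Nat.beq q r) true) 4060 0

/-- The listed elements have the listed images. -/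
noncomputable def repOK (e0 e1 : ℕ) (reps : List ℕ) (repW : List (List ℕ)) : Bool :=
  (List.range reps.length).all fun j =>
    letters (repW.getD j []) && Nat.beq (twalk tab 3 (repW.getD j []) (bp 0)) e0 &&
      Nat.beq (twalk tab 3 (repW.getD j []) (bp 1)) e1 &&
      Nat.beq (twalk tab 3 (repW.getD j []) (bp 2)) (reps.getD j 0)

/-- A candidate is no involution, is trivial, lifts to a root of the central element and does not commute
with the conjugates of the element of order five, or is a conjugate of the involution. -/
noncomputable def leafOK (cw : List ℕ) (code : ℕ) (conjW : List (List ℕ)) : Bool :=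
  cond (Nat.beq code 0) (diffW (cw ++ cw) [])
    (cond (Nat.beq code 1) (sameW cw [])
      (cond (Nat.beq code 2)
        (sameH (cw ++ cw) [0, 0] && (List.range 16).all fun k => diffW (cw ++ fiveConj k) (fiveConj k ++ cw))
        (force (Nat.sub code 3) fun m => sameW (tcW ++ conjW.getD m []) (conjW.getD m [] ++ cw))))

/-- All candidates for a range of representatives. -/
noncomputable def verdictOK (repW : List (List ℕ)) (verd : List ℕ) (conjW : List (List ℕ)) (a n : ℕ) : Bool :=
  (List.range n).all fun j' => force (Nat.add a j') fun j => force (verd.getD j 0) fun v =>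
    (List.range 16).all fun i => force (Nat.land (Nat.shiftRight v (Nat.mul 8 i)) 255) fun code =>
      leafOK (sW i ++ repW.getD j []) code conjW

end Cfsg.Lib.StdRu
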