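import Cfsg.Agent.Lib.StdRu.Classes

/-!
# No root of the central involution commutes with an element of order five and another involution
-/

set_option autoImplicit false
set_option maxRecDepth 100000

namespace Cfsg.Lib.StdRu

open Cfsg.Lib.Ru4060 Cfsg.Lib.CosetEnum
open Cfsg.Lib.Ru4060.OutRu (val letters sameW val_of_sameW val_append val_replicate)

/-- The element of order five. -/
noncomputable def fiveV : grp := val fiveW

/-- It fixes the first two base points, no other of the twelve, and has order five. -/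
noncomputable def fiveOK : Bool :=
  letters fiveW && Nat.beq (twalk tab 3 fiveW (bp 0)) (bp 0) && Nat.beq (twalk tab 3 fiveW (bp 1)) (bp 1) &&
    sameW (List.replicate 5 fiveW).flatten [] && diffW fiveW [] &&
    clique.all fun a => Nat.beq a (bp 0) || Nat.beq a (bp 1) || !(Nat.beq (twalk tab 3 fiveW a) a)

theorem five_ok : fiveOK = true := by decide +kernel

theorem five_facts : orderOf fiveV = 5 ∧ Commute fiveV tcv ∧
    ∀ a : Fin 4060, InO a → fiveV.1 a = a → a = bpt 0 ∨ a = bpt 1 := by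
  have h := five_ok
  simp only [fiveOK, Bool.and_eq_true, List.all_eq_true, Bool.or_eq_true, Bool.not_eq_true',
    ← Bool.not_eq_true, Nat.beq_eq] at h
  obtain ⟨⟨⟨⟨⟨hl, h0⟩, h1⟩, h5⟩, hne⟩, hO⟩ := h
  have : Fact (Nat.Prime 5) := ⟨by norm_num⟩
  have hp : fiveV ^ 5 = 1 := by
    rw [fiveV, ← val_replicate, val_of_sameW h5]
    rfl
  refine ⟨orderOf_eq_prime hp (val_ne_of_diffW hne), stab_two_commute (mem_stab_two (Fin.ext ((walk_val hl _).trans h0))
    (Fin.ext ((walk_val hl _).trans h1))), fun a ha hfix => ?_⟩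
  rcases hO _ (inO_iff.1 ha) with (e | e) | e
  · exact Or.inl (Fin.ext e)
  · exact Or.inr (Fin.ext e)
  · exact absurd ((walk_val hl a).symm.trans (congrArg Fin.val hfix)) e

theorem fiveV_eq : fiveV = val fiveW := rfl

theorem five_fix : ∀ b < 2, fiveV.1 (bpt b) = bpt b := by
  intro b hb
  have h := five_ok
  simp only [fiveOK, Bool.and_eq_true, Nat.beq_eq] at h
  obtain ⟨⟨⟨⟨⟨hl, h0⟩, h1⟩, -⟩, -⟩, -⟩ := h
  interval_cases b
  · exact Fin.ext ((walk_val hl _).trans h0)
  · exact Fin.ext ((walk_val hl _).trans h1)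

attribute [local irreducible] fiveV tcv

theorem exists_conj_five {q : grp} (hq : Commute q tcv) (h5 : q ^ 5 = 1) (h1 : q ≠ 1) :
    ∃ c : grp, Commute c tcv ∧ ∀ d : grp, Commute d q → Commute (c * d * c⁻¹) fiveV := by
  obtain ⟨ho, hc, -⟩ := five_facts
  have : Fact (Nat.Prime 5) := ⟨by norm_num⟩
  let C : Subgroup grp := Subgroup.centralizer {tcv}
  let qC : C := ⟨q, Subgroup.mem_centralizer_singleton_iff.2 hq.eq⟩
  let pC : C := ⟨fiveV, Subgroup.mem_centralizer_singleton_iff.2 hc.eq⟩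
  have hoq : orderOf q = 5 := orderOf_eq_prime h5 h1
  obtain ⟨c, hcq⟩ := exists_conj_mem (k := 1) (x := qC) (Subgroup.zpowers pC)
    (by rw [Nat.card_zpowers, Subgroup.orderOf_mk, ho, pow_one]) (by rw [card_centralizer]; norm_num)
    (IsPGroup.of_card (n := 1) (by rw [Nat.card_zpowers, Subgroup.orderOf_mk, hoq, pow_one]))
  obtain ⟨m, hm⟩ := Subgroup.mem_zpowers_iff.1 hcq
  have hm' : fiveV ^ m = (c : grp) * q * (c : grp)⁻¹ := by
    have e := congrArg Subtype.val hm
    simp only [SubgroupClass.coe_zpow, Subgroup.coe_mul, Subgroup.coe_inv, pC, qC] at e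
    exact e
  refine ⟨c, Subgroup.mem_centralizer_singleton_iff.1 c.2, fun d hd => ?_⟩
  have ho' : orderOf ((c : grp) * q * (c : grp)⁻¹) = 5 := by
    refine orderOf_eq_prime (by rw [conj_pow, h5, mul_one, mul_inv_cancel]) fun e => h1 ?_
    rwa [conj_eq_one_iff] at e
  have he : Subgroup.zpowers ((c : grp) * q * (c : grp)⁻¹) = Subgroup.zpowers fiveV :=
    Subgroup.eq_of_le_of_card_ge (Subgroup.zpowers_le.2 ⟨m, hm'⟩) (by
      rw [Nat.card_zpowers, Nat.card_zpowers, ho', ho])
  obtain ⟨n, hn⟩ := Subgroup.mem_zpowers_iff.1 (he ▸ Subgroup.mem_zpowers fiveV)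
  rw [← hn]
  refine Commute.zpow_right ?_ n
  show (c : grp) * d * (c : grp)⁻¹ * ((c : grp) * q * (c : grp)⁻¹) = _
  calc _ = (c : grp) * (d * q) * (c : grp)⁻¹ := by group
    _ = (c : grp) * (q * d) * (c : grp)⁻¹ := by rw [hd.eq]
    _ = _ := by group

theorem pair_of_commute {D : grp} (ht : Commute D tcv) (h5 : Commute D fiveV) :
    (D.1 (bpt 0) = bpt 0 ∧ D.1 (bpt 1) = bpt 1) ∨ (D.1 (bpt 0) = bpt 1 ∧ D.1 (bpt 1) = bpt 0) := by
  obtain ⟨-, -, hfix⟩ := five_facts
  have key : ∀ b : ℕ, (bpt b).1 ∈ clique → b < 2 → D.1 (bpt b) = bpt 0 ∨ D.1 (bpt b) = bpt 1 :=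
    fun b hb hb2 => by
    refine hfix _ (inO_smul ht (inO_iff.2 hb)) ?_
    have e := congrArg (fun x : grp => x.1 (bpt b)) h5.eq
    simp only [Subgroup.coe_mul, Equiv.Perm.mul_apply, five_fix b hb2] at e
    exact e.symm
  have hne : D.1 (bpt 0) ≠ D.1 (bpt 1) := fun e => by
    have := congrArg Fin.val (D.1.injective e)
    exact absurd this (by decide +kernel)
  rcases key 0 zero_mem_clique.1 (by norm_num) with a | a <;> rcases key 1 zero_mem_clique.2 (by norm_num) with b | b
  · exact absurd (a.trans b.symm) hne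
  · exact Or.inl ⟨a, b⟩
  · exact Or.inr ⟨a, b⟩
  · exact absurd (a.trans b.symm) hne

/-- The central involution has no such root. -/
theorem exclude {d p y : DoubleRu} (hd : d * d = zH) (hp : p ^ 5 = 1) (hp1 : p ≠ 1) (hy : y * y = 1) (hy1 : y ≠ 1)
    (hyz : y ≠ zH) (hdp : Commute d p) (hdy : Commute d y) (hpy : Commute p y) : False := by
  obtain ⟨k, hk⟩ := involution_conj hy hy1 hyz
  have hk' : prH (k * y * k⁻¹) = tcv := by
    rcases hk with e | e <;> rw [e]
    · exact prH_tH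
    · rw [map_mul, prH_zH, mul_one, prH_tH]
  have hcomm : ∀ {a b : DoubleRu}, Commute a b → Commute (prH (k * a * k⁻¹)) (prH (k * b * k⁻¹)) := fun h =>
    ((h.map (MulAut.conj k).toMonoidHom).map prH)
  have hdt := hcomm hdy
  have hpt := hcomm hpy
  rw [hk'] at hdt hpt
  have hq5 : prH (k * p * k⁻¹) ^ 5 = 1 := by rw [← map_pow, conj_pow, hp, mul_one, mul_inv_cancel, map_one]
  have hq1 : prH (k * p * k⁻¹) ≠ 1 := fun e => by
    rcases prH_eq_one e with h | h
    · exact hp1 (conj_eq_one_iff.1 h)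
    · have h2 := congrArg (· ^ 5) h
      simp only [conj_pow, hp, mul_one, mul_inv_cancel] at h2
      rw [show (5 : ℕ) = 2 + 2 + 1 from rfl, pow_add, pow_add, pow_one, pow_two, zH_sq, one_mul, one_mul] at h2
      exact zH_ne h2.symm
  obtain ⟨c, hc, hc5⟩ := exists_conj_five hpt hq5 hq1
  obtain ⟨m, hm⟩ := prH_surjective c
  set f := m * (k * d * k⁻¹) * m⁻¹ with hf
  have hff : f * f = zH := by
    calc f * f = m * k * (d * d) * (m * k)⁻¹ := by rw [hf]; group
      _ = zH := by rw [hd, zH_comm, mul_inv_cancel_right]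
  have hD : prH f = c * prH (k * d * k⁻¹) * c⁻¹ := by rw [hf, map_mul, map_mul, map_inv, hm]
  have h5 : Commute (prH f) fiveV := hD ▸ hc5 _ (hcomm hdp)
  have ht : Commute (prH f) tcv := hD ▸ (hc.mul_left hdt).mul_left hc.inv_left
  have hsq : prH f * prH f = 1 := by rw [← map_mul, hff, prH_zH]
  have hne : prH f ≠ 1 := fun e => by
    rcases prH_eq_one e with h | h <;> rw [h] at hff
    · exact zH_ne (hff.symm.trans (mul_one 1))
    · exact zH_ne (hff.symm.trans zH_sq)
  rcases pair_cases hsq hne (pair_of_commute ht h5) with ⟨h, e⟩ | ⟨g, hg, -, hno⟩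
  · exact zH_ne (hff.symm.trans (sq_of_conj e))
  · exact hno (fiveV_eq ▸ h5)

end Cfsg.Lib.StdRu
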