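import Cfsg.Agent.Lib.StdCo0.General

/-!
# A standard subgroup whose central involution has no root of the kind the others have

Every involution of the subgroup other than the central one is the square of an element of a tight subgroup
which commutes with an element of order five and with the involution; the central one is not such a square
inside the centraliser of another involution.
-/

set_option autoImplicit false

namespace Cfsg.Lib.StdRu

open Subgroup Cfsg Cfsg.Lib.StdCo0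

universe u v

variable {G : Type u} [Group G] [Finite G] {A : Subgroup G} {z : G} {H : Type v} [Group H]

/-- The criterion. -/
theorem normal_of_roots (hO : Cfsg.oddCore G = ⊥) (S : Situation A z) (e : ↥A ≃* H) (z₀ : H)
    (hz₀ : e ⟨z, S.mem⟩ = z₀)
    (hwit : ∀ y : H, y * y = 1 → y ≠ 1 → y ≠ z₀ → ∃ (D : Subgroup H) (φ : ↥D →* H), IsTight ↥D ∧
      (∀ x, Commute (φ x) y) ∧ ∃ d p : ↥D, φ d * φ d = y ∧ φ p ^ 5 = 1 ∧ φ p ≠ 1 ∧ Commute d p)
    (hexcl : ∀ d p y : H, d * d = z₀ → p ^ 5 = 1 → p ≠ 1 → y * y = 1 → y ≠ 1 → y ≠ z₀ →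
      Commute d p → Commute d y → Commute p y → False) : A.Normal := by
  have hzz : z * z = 1 := by rw [← pow_two, ← S.ord, pow_orderOf_eq_one]
  suffices hiso : Cfsg.IsIsolatedInvolution z by
    have hcen : ∀ g : G, Commute z g := fun g =>
      ZStar.commute_of_oddCore_bot hO (ZStar.zStarHolds G z hiso g)
    exact Subgroup.normalizer_eq_top_iff.1 (eq_top_iff.2 fun g _ => S.le_normalizer (hcen g).symm)
  refine ⟨S.ord, fun g hg => ?_⟩
  by_contra hne
  have hy := S.conjugate_mem' g hg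
  have hy' := S.conjugate_mem g hg
  have hne' : g⁻¹ * z * g ≠ z := fun h => hne (by
    calc g * z * g⁻¹ = g * (g⁻¹ * z * g) * g⁻¹ := by rw [h]
      _ = z := by group)
  have key : ∀ (w : G) (hw : w ∈ A), w * w = 1 → w ≠ 1 → w ≠ z →
      e ⟨w, hw⟩ * e ⟨w, hw⟩ = 1 ∧ e ⟨w, hw⟩ ≠ 1 ∧ e ⟨w, hw⟩ ≠ z₀ := by
    intro w hw h2 h1 hz
    refine ⟨by rw [← map_mul, show (⟨w, hw⟩ : ↥A) * ⟨w, hw⟩ = 1 from Subtype.ext h2, map_one],
      fun h => h1 ?_, fun h => hz (congrArg Subtype.val (e.injective (h.trans hz₀.symm)))⟩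
    exact congrArg Subtype.val ((MulEquiv.map_eq_one_iff e).1 h)
  have hone : z ≠ 1 := Invol.ne_one S.ord
  obtain ⟨a1, a2, a3⟩ := key _ hy (by rw [show g * z * g⁻¹ * (g * z * g⁻¹) = g * (z * z) * g⁻¹ by group, hzz, mul_one,
    mul_inv_cancel]) (fun h => hone (by rwa [mul_inv_eq_one, mul_eq_left] at h)) hne
  obtain ⟨b1, b2, b3⟩ := key _ hy' (by rw [show g⁻¹ * z * g * (g⁻¹ * z * g) = g⁻¹ * (z * z) * g by group, hzz, mul_one,
    inv_mul_cancel]) (fun h => hone (by
      calc z = g * (g⁻¹ * z * g) * g⁻¹ := by group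
        _ = 1 := by rw [h, mul_one, mul_inv_cancel])) hne'
  obtain ⟨D, φ, hD, hcomm, d, p, hd, hp, hp1, hdp⟩ := hwit _ a1 a2 a3
  let ι : ↥D →* G := A.subtype.comp (e.symm.toMonoidHom.comp φ)
  let f : ↥D →* G := (MulAut.conj g⁻¹).toMonoidHom.comp ι
  have hfx : ∀ x, f x = g⁻¹ * ι x * g := fun x => by
    show g⁻¹ * ι x * g⁻¹⁻¹ = _
    rw [inv_inv]
  have hι : ∀ x, Commute (ι x) (g * z * g⁻¹) := fun x => by
    have h := congrArg e.symm (hcomm x).eq
    simp only [map_mul, e.symm_apply_apply] at h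
    exact congrArg Subtype.val h
  have hfz : ∀ x, Commute (f x) z := fun x => by
    rw [hfx]
    show g⁻¹ * ι x * g * z = z * (g⁻¹ * ι x * g)
    calc g⁻¹ * ι x * g * z = g⁻¹ * (ι x * (g * z * g⁻¹)) * g := by group
      _ = g⁻¹ * ((g * z * g⁻¹) * ι x) * g := by rw [(hι x).eq]
      _ = _ := by group
  have hmem : ∀ x, f x ∈ A := fun x => S.tight_mem hD f hfz x
  let F : ↥D →* H := e.toMonoidHom.comp (f.codRestrict A hmem)
  have hF : ∀ x, Commute (F x) (e ⟨_, hy'⟩) := fun x => by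
    show e ⟨f x, hmem x⟩ * e ⟨_, hy'⟩ = e ⟨_, hy'⟩ * e ⟨f x, hmem x⟩
    rw [← map_mul, ← map_mul]
    refine congrArg e (Subtype.ext ?_)
    show f x * (g⁻¹ * z * g) = g⁻¹ * z * g * f x
    have hz : Commute z (ι x) := S.com _ (e.symm (φ x)).2
    rw [hfx]
    calc g⁻¹ * ι x * g * (g⁻¹ * z * g) = g⁻¹ * (ι x * z) * g := by group
      _ = g⁻¹ * (z * ι x) * g := by rw [hz.eq]
      _ = _ := by group
  refine hexcl (F d) (F p) (e ⟨_, hy'⟩) ?_ ?_ (fun h => hp1 ?_) b1 b2 b3 (hdp.map F) (hF d) (hF p)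
  · rw [← hz₀]
    show e ⟨f d, hmem d⟩ * e ⟨f d, hmem d⟩ = _
    rw [← map_mul]
    refine congrArg e (Subtype.ext ?_)
    show f d * f d = z
    have h : ι d * ι d = g * z * g⁻¹ := by
      have h := congrArg e.symm hd
      simp only [map_mul, e.symm_apply_apply] at h
      exact congrArg Subtype.val h
    rw [hfx, show g⁻¹ * ι d * g * (g⁻¹ * ι d * g) = g⁻¹ * (ι d * ι d) * g by group, h]
    group
  · have h : ι p ^ 5 = 1 := by
      show ((e.symm (φ p) : ↥A) : G) ^ 5 = 1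
      rw [← SubmonoidClass.coe_pow, ← map_pow, hp, map_one, OneMemClass.coe_one]
    have h' : f p ^ 5 = 1 := by
      rw [hfx]
      calc (g⁻¹ * ι p * g) ^ 5 = g⁻¹ * ι p ^ 5 * g⁻¹⁻¹ := by rw [← conj_pow, inv_inv]
        _ = 1 := by rw [h]; group
    show e ⟨f p, hmem p⟩ ^ 5 = 1
    rw [← map_pow, show (⟨f p, hmem p⟩ : ↥A) ^ 5 = 1 from Subtype.ext h', map_one]
  · have h' : f p = 1 := congrArg Subtype.val ((MulEquiv.map_eq_one_iff e).1 h)
    have h'' : ι p = 1 := by
      rw [hfx] at h'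
      calc ι p = g * (g⁻¹ * ι p * g) * g⁻¹ := by group
        _ = 1 := by rw [h']; group
    exact (MulEquiv.map_eq_one_iff e.symm).1 (Subtype.ext h'')

end Cfsg.Lib.StdRu
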