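import Cfsg.Agent.Lib.RuMult.Lower
import Cfsg.Agent.Lib.StdRu.Data

/-!
# The double cover of the Rudvalis group inside the lattice automorphisms, by words

The three generators of the lattice automorphisms lie in the derived subgroup, which is the double cover.
-/

set_option autoImplicit false
set_option maxRecDepth 100000

namespace Cfsg.Lib.StdRu

open Cfsg.Spor Cfsg.Lib.RuMin Cfsg.Lib.RuMult Cfsg.Lib.Ru4060 Cfsg.Lib.CosetEnum
open Cfsg.Lib.Ru4060.OutRu (val letters letters_lt sameW val_of_sameW val_append val_coe)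

/-- The lattice automorphism of a word. -/
noncomputable def lw (w : List ℕ) : fourRu := wordVal gA w

theorem lw_append (a b : List ℕ) : lw (a ++ b) = lw b * lw a := wordVal_append ..

/-- The projection to the group on 4060 points. -/
noncomputable def pr : fourRu →* grp :=
  lineHom.codRestrict grp fun f => lineHom_range ▸ ⟨f, rfl⟩

theorem pr_lw {w : List ℕ} (hw : letters w = true) : pr (lw w) = val w :=
  Subtype.ext ((line_wordVal (letters_lt hw)).trans (val_coe (letters_lt hw)).symm)

theorem pr_surjective : Function.Surjective pr := fun x => by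
  obtain ⟨f, hf⟩ : (x : Equiv.Perm (Fin 4060)) ∈ lineHom.range := lineHom_range.symm ▸ x.2
  exact ⟨f, Subtype.ext hf⟩

theorem mem_center_of_pr {f : fourRu} (h : pr f = 1) : f ∈ Subgroup.center fourRu :=
  ker_eq_center ▸ (congrArg Subtype.val h : lineHom f = 1)

theorem pr_of_mem_center {f : fourRu} (h : f ∈ Subgroup.center fourRu) : pr f = 1 :=
  Subtype.ext (show lineHom f = 1 from MonoidHom.mem_ker.1 (ker_eq_center.symm ▸ h))

/-- Equality of two lifts: the same permutation and the same unit at the first point. -/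
noncomputable def sameH (a b : List ℕ) : Bool :=
  sameW a b && (Nat.beq (uwalk a 0).1 (uwalk b 0).1 && Nat.beq (uwalk a 0).2 (uwalk b 0).2)

theorem sameH_spec {a b : List ℕ} (h : sameH a b = true) : lw a = lw b := by
  simp only [sameH, Bool.and_eq_true, Nat.beq_eq] at h
  obtain ⟨hw, h1, h2⟩ := h
  have hl := hw
  simp only [sameW, Bool.and_eq_true] at hl
  have hf : lineHom ((lw a)⁻¹ * lw b) = 1 := by
    have e : pr ((lw a)⁻¹ * lw b) = 1 := by
      rw [map_mul, map_inv, pr_lw hl.1.1, pr_lw hl.1.2, val_of_sameW hw, inv_mul_cancel]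
    exact congrArg Subtype.val e
  refine inv_mul_eq_one.1 (eq_one_of_unit hf ?_)
  have ha := (uwalk_sound (letters_lt hl.1.1) ⟨0, by norm_num⟩).2
  have hb := (uwalk_sound (letters_lt hl.1.2) ⟨0, by norm_num⟩).2
  have e : (lw b).1 (rvL ⟨0, by norm_num⟩) = (lw a).1 (rvL ⟨0, by norm_num⟩) := by
    refine Subtype.ext (hb.trans (Eq.trans ?_ ha.symm))
    rw [h1, h2]
  show (((lw a)⁻¹ * lw b).1 (rvL ⟨0, by norm_num⟩)).1 = rv 0
  rw [Subgroup.coe_mul, Equiv.Perm.mul_apply, e, Subgroup.coe_inv]
  show (((lw a).1).symm ((lw a).1 (rvL ⟨0, by norm_num⟩))).1 = rv 0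
  rw [Equiv.symm_apply_apply]
  rfl

/-- The central involution. -/
noncomputable def negW : fourRu := lw [0, 0]

theorem negW_line : lineHom negW = 1 := by
  have h : pr negW = 1 := by
    rw [negW, pr_lw (by decide), val_of_sameW (a := [0, 0]) (b := []) (by decide +kernel)]
    rfl
  exact congrArg Subtype.val h

theorem negW_center : negW ∈ Subgroup.center fourRu := ker_eq_center ▸ negW_line

theorem negW_unit : (negW.1 (rvL ⟨0, by norm_num⟩)).1 = gI ^ 2 • rv 0 := by
  have h := (uwalk_sound (w := [0, 0]) (by decide) ⟨0, by norm_num⟩).2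
  have e : uwalk [0, 0] 0 = (0, 2) := by decide +kernel
  rw [e] at h
  exact h

theorem negW_ne : negW ≠ 1 := fun h => by
  have h1 := negW_unit
  rw [h] at h1
  have h2 := congrArg (fun v => herm v (rv 0)) (h1 : rv 0 = gI ^ 2 • rv 0)
  simp only [herm_smul_left, herm_self, (rv_facts (⟨0, by norm_num⟩ : Fin 4060)).2] at h2
  exact absurd h2 (by decide)

theorem negW_mul_self : negW * negW = 1 := by
  rw [negW, ← lw_append]
  exact sameH_spec (a := [0, 0] ++ [0, 0]) (b := []) (by decide +kernel)

theorem scalar_eq_scalar {a b : ℕ} (h : gI ^ a = gI ^ b) : scalar a = scalar b :=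
  Subtype.ext (Equiv.ext fun x => Subtype.ext (by show gI ^ a • x.1 = gI ^ b • x.1; rw [h]))

theorem scalar_two : scalar 2 = negW := by
  obtain ⟨e, he⟩ := eq_scalar_of_ker negW_line
  refine (he.trans (scalar_eq_scalar ?_)).symm
  have h : gI ^ e • rv 0 = gI ^ 2 • rv 0 := by
    have h1 := negW_unit
    rw [he] at h1
    exact h1
  have h2 := congrArg (fun v => herm v (rv 0)) h
  simp only [herm_smul_left] at h2
  refine mul_right_cancel₀ ?_ h2
  rw [herm_self, (rv_facts (⟨0, by norm_num⟩ : Fin 4060)).2]
  decide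

theorem center_sq {c : fourRu} (h : c ∈ Subgroup.center fourRu) : c * c = 1 ∨ c * c = negW := by
  obtain ⟨e, rfl⟩ := eq_scalar_of_ker (MonoidHom.mem_ker.1 (ker_eq_center.symm ▸ h))
  have hmul : scalar e * scalar e = scalar (2 * e) := Subtype.ext (Equiv.ext fun x => Subtype.ext (by
    show gI ^ e • gI ^ e • x.1 = gI ^ (2 * e) • x.1
    rw [smul_smul, ← pow_add, ← two_mul]))
  rw [hmul]
  rcases Nat.even_or_odd e with ⟨k, rfl⟩ | ⟨k, rfl⟩
  · left
    refine (scalar_eq_scalar (b := 0) ?_).trans (Subtype.ext (Equiv.ext fun x => Subtype.ext ?_))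
    · rw [show 2 * (k + k) = 4 * k by ring, pow_mul, gI_pow_four, one_pow, pow_zero]
    · show gI ^ 0 • x.1 = x.1
      rw [pow_zero, one_smul]
  · right
    refine (scalar_eq_scalar (b := 2) ?_).trans scalar_two
    rw [show 2 * (2 * k + 1) = 4 * k + 2 by ring, pow_add, pow_mul, gI_pow_four, one_pow, one_mul]

theorem exists_commutator_center (f : fourRu) :
    ∃ d ∈ commutator fourRu, ∃ c ∈ Subgroup.center fourRu, f = d * c := by
  obtain ⟨d, hd⟩ := proj_stem.1 (QuotientGroup.mk' _ f)
  refine ⟨d, d.2, (d : fourRu)⁻¹ * f, (QuotientGroup.eq_one_iff _).1 ?_, by group⟩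
  rw [QuotientGroup.mk_mul, QuotientGroup.mk_inv]
  exact inv_mul_eq_one.2 hd

theorem negW_mem : negW ∈ commutator fourRu := by
  obtain ⟨e, he⟩ := eq_scalar_of_ker minusOne_line
  rw [← scalar_two]
  rcases center_sq (ker_eq_center ▸ minusOne_line : minusOne ∈ Subgroup.center fourRu) with h | h
  · -- the obstruction is not the identity and squares to it
    rw [he] at h
    have hne := minusOne_ne
    rw [he] at hne
    have he' : scalar e = scalar (e % 4) := scalar_eq_scalar (gI_pow_mod e)
    rw [he'] at h hne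
    have h4 : e % 4 < 4 := Nat.mod_lt _ (by norm_num)
    have hs : ∀ a b : ℕ, scalar a = scalar b → gI ^ a = gI ^ b := fun a b hab => by
      have h1 : gI ^ a • rv 0 = gI ^ b • rv 0 :=
        congrArg (fun f : fourRu => (f.1 (rvL ⟨0, by norm_num⟩)).1) hab
      have h2 := congrArg (fun v => herm v (rv 0)) h1
      simp only [herm_smul_left] at h2
      refine mul_right_cancel₀ ?_ h2
      rw [herm_self, (rv_facts (⟨0, by norm_num⟩ : Fin 4060)).2]
      decide
    have h0 : scalar 0 = 1 := Subtype.ext (Equiv.ext fun x => Subtype.ext (by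
      show gI ^ 0 • x.1 = x.1; rw [pow_zero, one_smul]))
    have hmul : scalar (e % 4) * scalar (e % 4) = scalar (e % 4 + e % 4) :=
      Subtype.ext (Equiv.ext fun x => Subtype.ext (by
        show gI ^ (e % 4) • gI ^ (e % 4) • x.1 = gI ^ (e % 4 + e % 4) • x.1
        rw [smul_smul, ← pow_add]))
    have h5 := hs _ _ ((hmul ▸ h).trans h0.symm)
    have h2 : e % 4 = 2 := by
      interval_cases hq : e % 4
      · exact absurd h0 hne
      · exact absurd h5 (by decide)
      · rfl
      · exact absurd h5 (by decide)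
    rw [← h2, ← he', ← he]
    exact minusOne_mem_commutator
  · rw [scalar_two, ← h]
    exact mul_mem minusOne_mem_commutator minusOne_mem_commutator

theorem center_of_sq {f : fourRu} : Abelianization.of f * Abelianization.of f = 1 := by
  obtain ⟨d, hd, c, hc, rfl⟩ := exists_commutator_center f
  have h1 : Abelianization.of d = 1 := MonoidHom.mem_ker.1 (Abelianization.ker_of fourRu ▸ hd)
  rw [map_mul, h1, one_mul, ← map_mul]
  rcases center_sq hc with h | h <;> rw [h]
  · exact map_one _
  · exact MonoidHom.mem_ker.1 (Abelianization.ker_of fourRu ▸ negW_mem)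

theorem wordVal_comm {A : Type*} [CommGroup A] (a : ℕ → A) : ∀ {w : List ℕ}, (∀ g ∈ w, g < 3) →
    wordVal a w = a 0 ^ w.count 0 * a 1 ^ w.count 1 * a 2 ^ w.count 2
  | [], _ => by simp [wordVal]
  | g :: w, h => by
    have hg : g < 3 := h g (by simp)
    rw [wordVal, wordVal_comm a (w := w) fun b hb => h b (by simp [hb]), gen,
      if_neg (by unfold eps; omega)]
    interval_cases g <;> simp [pow_succ, mul_assoc, mul_comm, mul_left_comm]

/-- The check on the three words of odd order. -/
noncomputable def parOK : Bool :=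
  (List.range 3).all fun j =>
    letters (parWords.getD j []) && Nat.beq (parOrds.getD j 0 % 2) 1 &&
    ((List.range 3).all fun g => Nat.beq ((parWords.getD j []).count g % 2) (cond (Nat.beq g j) 1 0)) &&
    sameW (List.replicate (parOrds.getD j 0) (parWords.getD j [])).flatten []

theorem par_ok : parOK = true := by decide +kernel

theorem lw_replicate (w : List ℕ) : ∀ n : ℕ, lw (List.replicate n w).flatten = lw w ^ n
  | 0 => rfl
  | n + 1 => by rw [List.replicate_succ, List.flatten_cons, lw_append, lw_replicate w n, pow_succ]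

theorem letters_append {a b : List ℕ} (ha : letters a = true) (hb : letters b = true) :
    letters (a ++ b) = true := by
  simp only [letters, List.all_append, Bool.and_eq_true]
  exact ⟨ha, hb⟩

theorem par_scalar : ∀ j < 3, sameH (List.replicate (parOrds.getD j 0) (parWords.getD j [])).flatten
    (cond (Nat.beq (uwalk (List.replicate (parOrds.getD j 0) (parWords.getD j [])).flatten 0).2 0) [] [0, 0]) =
      true := by decide +kernel

theorem par_unit (g : ℕ) (hg : g < 3) :
    Abelianization.of (lw (parWords.getD g []) ^ parOrds.getD g 0) = 1 := by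
  have h := sameH_spec (par_scalar g hg)
  rw [lw_replicate] at h
  rw [h]
  cases Nat.beq (uwalk (List.replicate (parOrds.getD g 0) (parWords.getD g [])).flatten 0).2 0
  · exact MonoidHom.mem_ker.1 (Abelianization.ker_of fourRu ▸ negW_mem)
  · exact map_one _

theorem gA_mem (g : ℕ) : gA g ∈ commutator fourRu := by
  by_cases hg : g < 3
  swap
  · rw [gA, dif_neg hg]; exact one_mem _
  rw [← Abelianization.ker_of, MonoidHom.mem_ker]
  have h := List.all_eq_true.1 par_ok g (List.mem_range.2 hg)
  simp only [Bool.and_eq_true, Nat.beq_eq, List.all_eq_true, List.mem_range] at h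
  obtain ⟨⟨⟨hl, hn⟩, hc⟩, -⟩ := h
  set w := parWords.getD g [] with hw
  set n := parOrds.getD g 0
  set a : ℕ → Abelianization fourRu := fun g => Abelianization.of (gA g) with ha
  have hsq : ∀ i : ℕ, a i * a i = 1 := fun i => center_of_sq
  have hpow : ∀ (x : Abelianization fourRu) (m : ℕ), x * x = 1 → x ^ m = x ^ (m % 2) := fun x m hx => by
    conv_lhs => rw [← Nat.mod_add_div m 2, pow_add, pow_mul, pow_two, hx, one_pow, mul_one]
  have hv : Abelianization.of (lw w) = a g := by
    rw [lw, map_wordVal, show (fun g => Abelianization.of (gA g)) = a from rfl, wordVal_comm a (letters_lt hl),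
      hpow _ _ (hsq 0), hpow _ _ (hsq 1), hpow _ _ (hsq 2), hc 0 (by norm_num), hc 1 (by norm_num),
      hc 2 (by norm_num)]
    have hb : ∀ i j : ℕ, Nat.beq i j = decide (i = j) := fun i j => by
      rw [Bool.eq_iff_iff, Nat.beq_eq, decide_eq_true_iff]
    interval_cases g <;> simp [hb]
  have hk := par_unit g hg
  rw [map_pow, hv, hpow _ _ (hsq g), hn, pow_one] at hk
  exact hk

theorem lw_mem : ∀ w : List ℕ, lw w ∈ commutator fourRu
  | [] => one_mem _
  | g :: w => by
    show wordVal gA w * gen gA g ∈ _
    refine mul_mem (lw_mem w) ?_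
    unfold gen
    split
    · exact one_mem _
    · exact gA_mem g

end Cfsg.Lib.StdRu
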