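import Cfsg.Agent.Lib.StdRu.Classes
import Cfsg.Agent.Lib.Schur.Perfect
import Cfsg.Agent.Lib.Ru4060.Out

/-!
# The double cover is unique, has centre of order two and only inner automorphisms
-/

set_option autoImplicit false
set_option maxRecDepth 100000

namespace Cfsg.Lib.StdRu

open Cfsg.Spor Cfsg.Lib.RuMin Cfsg.Lib.RuMult Cfsg.Lib.Ru4060

universe u

theorem proj_ker {a : DoubleRu} (h : proj a = 1) : a = 1 ∨ a = zH :=
  prH_eq_one (pr_of_mem_center ((QuotientGroup.eq_one_iff (a : fourRu)).1 h))

theorem isPerfect_ru : Group.IsPerfect Ru := Group.isPerfect_def.2 commutator_ru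

theorem perfect_double : commutator DoubleRu = ⊤ := by
  refine eq_top_iff.2 fun d _ => ?_
  obtain ⟨hs, -, hker⟩ := proj_stem
  have h : proj d ∈ (commutator DoubleRu).map proj := by
    rw [_root_.commutator_def DoubleRu, Subgroup.map_commutator, Subgroup.map_top_of_surjective proj hs,
      ← _root_.commutator_def Ru, commutator_ru]
    exact Subgroup.mem_top _
  obtain ⟨c, hc, e⟩ := h
  have h1 := hker (show c⁻¹ * d ∈ proj.ker by rw [MonoidHom.mem_ker, map_mul, map_inv, e, inv_mul_cancel])
  simpa using mul_mem hc h1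

theorem commutator_grp : commutator grp = ⊤ := by
  rw [_root_.commutator_def, ← Subgroup.map_top_of_surjective prH prH_surjective, ← Subgroup.map_commutator,
    ← _root_.commutator_def, perfect_double]

theorem center_grp : Subgroup.center grp = ⊥ := by
  have := grp_simple
  refine (IsSimpleGroup.eq_bot_or_eq_top_of_normal (Subgroup.center grp) inferInstance).resolve_right fun h => ?_
  have hb : commutator grp = ⊥ := by
    rw [eq_bot_iff, _root_.commutator_def, Subgroup.commutator_le]
    intro a _ b _
    rw [Subgroup.mem_bot, commutatorElement_eq_one_iff_mul_comm]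
    exact Subgroup.mem_center_iff.1 (h ▸ Subgroup.mem_top b) a
  exact (bot_ne_top (α := Subgroup grp)) (hb.symm.trans commutator_grp)

theorem center_double {a : DoubleRu} (ha : a ∈ Subgroup.center DoubleRu) : a = 1 ∨ a = zH := by
  refine prH_eq_one (Subgroup.mem_bot.1 (center_grp ▸ Subgroup.mem_center_iff.2 fun x => ?_))
  obtain ⟨b, rfl⟩ := prH_surjective x
  rw [← map_mul, ← map_mul, Subgroup.mem_center_iff.1 ha b]

theorem zH_center : zH ∈ Subgroup.center DoubleRu := Subgroup.mem_center_iff.2 zH_comm

theorem finite_double : Finite DoubleRu := by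
  have := finite_fourRu
  infer_instance

/-- The kernel in a stem extension has order at most two. -/
theorem card_le_of_stem {Γ : Type} [Group Γ] (σ : Γ →* Ru) (hσ : Cfsg.IsStemExtension σ) :
    Nat.card Γ ≤ 2 * Nat.card Ru := by
  obtain ⟨p, hp⟩ := stem_ker_ru σ hσ
  have h : Nat.card σ.ker ≤ 2 :=
    (Nat.card_le_card_of_surjective p hp).trans_eq ((Nat.card_congr Multiplicative.toAdd).trans (Nat.card_zmod 2))
  rw [← σ.ker.card_mul_index, Subgroup.index_ker, MonoidHom.range_eq_top.2 hσ.1, Subgroup.card_top]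
  exact Nat.mul_le_mul_right _ h

theorem card_double : Nat.card DoubleRu = 2 * Nat.card Ru := by
  have := finite_double
  refine le_antisymm (card_le_of_stem proj proj_stem) ?_
  rw [← proj.ker.card_mul_index, Subgroup.index_ker, MonoidHom.range_eq_top.2 proj_stem.1, Subgroup.card_top]
  refine Nat.mul_le_mul_right _ ?_
  obtain ⟨a, ha⟩ := minusOne_ker
  exact Finite.one_lt_card_iff_nontrivial.2 ⟨⟨a, 1, ha⟩⟩

/-- A perfect group with centre of order two over the Rudvalis group is the double cover. -/
theorem nonempty_equiv {A : Type u} [Group A] [Finite A] (hperf : commutator A = ⊤)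
    (hZ : Nat.card (Subgroup.center A) = 2) (hX : IsoRu (A ⧸ Subgroup.center A)) : Nonempty (A ≃* DoubleRu) := by
  have := finite_double
  have : Finite grp := inferInstance
  have : Finite Ru := Finite.of_equiv _ ruEquiv.symm.toEquiv
  obtain ⟨φ⟩ := hX
  let σA : A →* Ru := φ.toMonoidHom.comp (QuotientGroup.mk' (Subgroup.center A))
  have hsA : Function.Surjective σA := φ.surjective.comp (QuotientGroup.mk'_surjective _)
  have hkA : σA.ker = Subgroup.center A := by
    ext a
    rw [MonoidHom.mem_ker]
    show φ (QuotientGroup.mk' _ a) = 1 ↔ _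
    rw [MulEquiv.map_eq_one_iff]
    exact QuotientGroup.eq_one_iff a
  have hA : Cfsg.IsStemExtension σA := ⟨hsA, hkA.le, hperf ▸ le_top⟩
  let C := Schur.Cov (Schur.canon Ru)
  let σU : commutator C →* Ru := (Schur.covMap (Schur.canon Ru)).comp (commutator C).subtype
  have hU : Cfsg.IsStemExtension σU := by
    refine ⟨Schur.covMap_commutator_surjective isPerfect_ru, fun a ha => ?_, ?_⟩
    · exact Subgroup.mem_center_iff.2 fun b =>
        Subtype.ext (Subgroup.mem_center_iff.1 (Schur.ker_covMap_le_center (Schur.canon Ru) ha) b)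
    · have h := (Schur.isPerfect_commutator (Q := Ru) isPerfect_ru).commutator_eq_top
      exact le_of_le_of_eq le_top h.symm
  have : Finite (commutator C) := Schur.finite_commutator_cov
  have key : ∀ {E : Type u} [Group E] (σ : E →* Ru), Cfsg.IsStemExtension σ → commutator E = ⊤ →
      ∃ f : commutator C →* E, Function.Surjective f := fun {E} _ σ hσ hE => by
    obtain ⟨β, hβ⟩ := Schur.exists_lift (Schur.canon Ru) σ hσ.2.1 (MonoidHom.id Ru) (fun q => hσ.1 q)
    refine ⟨β.comp (commutator C).subtype, fun e => ?_⟩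
    have he : e ∈ (commutator C).map β := by
      rw [← Schur.commutator_eq_map (Schur.canon Ru) hσ.2.1 Schur.canon_surjective hβ, hE]
      exact Subgroup.mem_top e
    obtain ⟨c, hc, rfl⟩ := he
    exact ⟨⟨c, hc⟩, rfl⟩
  obtain ⟨βD, hβD⟩ := Schur.exists_lift (Schur.canon Ru) proj proj_stem.2.1 (MonoidHom.id Ru)
    (fun q => proj_stem.1 q)
  have hsD : Function.Surjective (βD.comp (commutator C).subtype) := fun e => by
    have he : e ∈ (commutator C).map βD := by
      rw [← Schur.commutator_eq_map (Schur.canon Ru) proj_stem.2.1 Schur.canon_surjective hβD, perfect_double]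
      exact Subgroup.mem_top e
    obtain ⟨c, hc, rfl⟩ := he
    exact ⟨⟨c, hc⟩, rfl⟩
  obtain ⟨fA, hfA⟩ := key σA hA hperf
  have hle := card_le_of_stem σU hU
  have hcA : Nat.card A = 2 * Nat.card Ru := by
    rw [← Nat.card_congr φ.toEquiv, ← hZ, ← Subgroup.index_eq_card, Subgroup.card_mul_index]
  have bA : Function.Bijective fA :=
    hfA.bijective_of_nat_card_le (hle.trans hcA.ge)
  have bD : Function.Bijective (βD.comp (commutator C).subtype) :=
    hsD.bijective_of_nat_card_le (hle.trans card_double.ge)
  exact ⟨(MulEquiv.ofBijective fA bA).symm.trans (MulEquiv.ofBijective _ bD)⟩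

/-- Every automorphism is inner. -/
theorem inner_double (φ : MulAut DoubleRu) : ∃ h : DoubleRu, ∀ x, φ x = h * x * h⁻¹ := by
  have := finite_double
  have hzfix : φ zH = zH := by
    refine (center_double (Subgroup.mem_center_iff.2 fun y => ?_)).resolve_left fun h => zH_ne ?_
    · obtain ⟨y, rfl⟩ := φ.surjective y
      rw [← map_mul, ← map_mul, zH_comm]
    · exact φ.injective (h.trans (map_one φ).symm)
  have hker : prH.ker ≤ (prH.comp φ.toMonoidHom).ker := fun a ha => by
    rcases prH_eq_one ha with rfl | rfl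
    · exact one_mem _
    · show prH (φ zH) = 1
      rw [hzfix, prH_zH]
  let f : grp →* grp := prH.liftOfSurjective prH_surjective ⟨prH.comp φ.toMonoidHom, hker⟩
  have hf : ∀ a, f (prH a) = prH (φ a) := fun a =>
    MonoidHom.liftOfRightInverse_comp_apply prH _ (Function.rightInverse_surjInv prH_surjective)
      ⟨prH.comp φ.toMonoidHom, hker⟩ a
  have hfs : Function.Surjective f := fun x => by
    obtain ⟨a, rfl⟩ := prH_surjective x
    exact ⟨prH (φ.symm a), by rw [hf, φ.apply_symm_apply]⟩
  let α : grp ≃* grp := MulEquiv.ofBijective f ⟨Finite.injective_iff_surjective.2 hfs, hfs⟩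
  obtain ⟨g, hg⟩ := OutRu.exists_inner α
  obtain ⟨k, rfl⟩ := prH_surjective g
  have hG : Group.IsPerfect DoubleRu := Group.isPerfect_def.2 perfect_double
  have e := Schur.hom_eq_of_perfect hG (f := (MulAut.conj k⁻¹).toMonoidHom) (g := φ.toMonoidHom) fun x => by
    have h1 : prH k * prH (φ x) * (prH k)⁻¹ = prH x := by rw [← hf]; exact hg (prH x)
    refine (fun h => ?_) (prH_eq_one (a := (k⁻¹ * x * k⁻¹⁻¹)⁻¹ * φ x) ?_)
    · show (k⁻¹ * x * k⁻¹⁻¹)⁻¹ * φ x ∈ Subgroup.center DoubleRu
      rcases h with e | e <;> rw [e]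
      · exact one_mem _
      · exact zH_center
    · rw [map_mul, map_inv, map_mul, map_mul, map_inv, inv_inv, ← h1]
      group
  exact ⟨k⁻¹, fun x => (DFunLike.congr_fun e x).symm⟩

end Cfsg.Lib.StdRu
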