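import Cfsg.Agent.Lib.StdRu.Classes
import Cfsg.Agent.Lib.StdCo0.General

/-!
# A tight subgroup commuting with an involution and containing a root of it
-/

set_option autoImplicit false
set_option maxRecDepth 100000

namespace Cfsg.Lib.StdRu

open Cfsg.Lib.Ru4060 Cfsg.Lib.CosetEnum
open Cfsg.Lib.Ru4060.OutRu (val letters)

/-- A commutative group kills a pair of elements with the relations of the icosahedral group. -/
theorem pair_comm {Q : Type*} [Group Q] {A B : Q} (hA : A * A = 1) (hB : B * B * B = 1)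
    (hAB : (B * A) ^ 5 = 1) (hc : A * B = B * A) : A = 1 ∧ B = 1 := by
  have hA2 : A ^ 2 = 1 := by rw [pow_two, hA]
  have hB3 : B ^ 3 = 1 := by rw [pow_succ, pow_two, hB]
  have h : B ^ 2 * A = 1 := by
    rw [(show Commute B A from hc.symm).mul_pow, show (5 : ℕ) = 3 + 2 from rfl, pow_add B, hB3, one_mul,
      show (3 + 2 : ℕ) = 2 + 2 + 1 from rfl, pow_add, pow_add, hA2, one_mul, one_mul, pow_one] at hAB
    exact hAB
  have e : A = B := by
    calc A = B ^ 3 * A := by rw [hB3, one_mul]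
      _ = B * (B ^ 2 * A) := by rw [pow_succ' B 2, mul_assoc]
      _ = B := by rw [h, mul_one]
  subst e
  have : A = 1 := by rw [hA, one_mul] at hB; exact hB
  exact ⟨this, this⟩

theorem pair_odd {Q : Type*} [Group Q] (hodd : Odd (Nat.card Q)) {A B : Q} (hA : A * A = 1) (hB : B * B * B = 1)
    (hAB : (B * A) ^ 5 = 1) : A = 1 ∧ B = 1 := by
  have e : A = 1 := by
    rw [← orderOf_eq_one_iff]
    exact Nat.Coprime.eq_one_of_dvd ((Nat.coprime_two_left.2 hodd).coprime_dvd_left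
      (orderOf_dvd_of_pow_eq_one (by rw [pow_two, hA]))) (orderOf_dvd_natCard A)
  subst e
  exact pair_comm hA hB hAB (by rw [one_mul, mul_one])

/-- The words of the generators. -/
def genX : List (List ℕ) := pairW.flatMap fun p => [p.1, p.2]

/-- The pairs have the relations and commute with the involution. -/
noncomputable def pairOK : Bool :=
  pairW.all fun p =>
    sameH (p.1 ++ p.1) [] && sameH (p.2 ++ p.2 ++ p.2) [] &&
      sameH (List.replicate 5 (p.1 ++ p.2)).flatten [] &&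
      sameH (p.1 ++ tcW) (tcW ++ p.1) && sameH (p.2 ++ tcW) (tcW ++ p.2)

theorem pair_ok : pairOK = true := by decide +kernel

theorem pair_facts {p : List ℕ × List ℕ} (hp : p ∈ pairW) :
    wH p.1 * wH p.1 = 1 ∧ wH p.2 * wH p.2 * wH p.2 = 1 ∧ (wH p.2 * wH p.1) ^ 5 = 1 ∧
      Commute (wH p.1) tH ∧ Commute (wH p.2) tH := by
  have h := List.all_eq_true.1 pair_ok p hp
  simp only [Bool.and_eq_true] at h
  obtain ⟨⟨⟨⟨h1, h2⟩, h3⟩, h4⟩, h5⟩ := h
  refine ⟨?_, ?_, ?_, ?_, ?_⟩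
  · rw [← wH_append, wH_of_sameH h1]; rfl
  · rw [← wH_append, ← wH_append, ← List.append_assoc, wH_of_sameH h2]; rfl
  · rw [← wH_append, ← wH_replicate, wH_of_sameH h3]; rfl
  · have e := wH_of_sameH h4
    rw [wH_append, wH_append] at e
    exact e.symm
  · have e := wH_of_sameH h5
    rw [wH_append, wH_append] at e
    exact e.symm

/-- The subgroup. -/
noncomputable def tightD : Subgroup DoubleRu := Subgroup.closure {x | ∃ w ∈ genX, x = wH w}

theorem mem_genX {w : List ℕ} (h : w ∈ genX) : ∃ p ∈ pairW, w = p.1 ∨ w = p.2 := by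
  simp only [genX, List.mem_flatMap, List.mem_cons, List.not_mem_nil, or_false] at h
  exact h

theorem tightD_commute {x : DoubleRu} (hx : x ∈ tightD) : Commute x tH := by
  have h : tightD ≤ Subgroup.centralizer {tH} := (Subgroup.closure_le _).2 fun y ⟨w, hw, e⟩ => by
    obtain ⟨p, hp, rfl | rfl⟩ := mem_genX hw <;> subst e <;>
      apply Subgroup.mem_centralizer_singleton_iff.2
    · exact (pair_facts hp).2.2.2.1.eq
    · exact (pair_facts hp).2.2.2.2.eq
  exact Subgroup.mem_centralizer_singleton_iff.1 (h hx)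

/-- A homomorphism killing each pair is trivial. -/
theorem hom_trivial {Q : Type*} [Group Q] (f : ↥tightD →* Q)
    (hf : ∀ a b : ↥tightD, f a * f a = 1 → f b * f b * f b = 1 → (f b * f a) ^ 5 = 1 → f a = 1 ∧ f b = 1) :
    f.ker = ⊤ := by
  have h : tightD ≤ f.ker.map tightD.subtype := by
    refine (Subgroup.closure_le _).2 fun y ⟨w, hw, e⟩ => ?_
    subst e
    obtain ⟨p, hp, hw'⟩ := mem_genX hw
    have m1 : wH p.1 ∈ tightD := Subgroup.subset_closure ⟨_, List.mem_flatMap.2 ⟨p, hp, by simp⟩, rfl⟩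
    have m2 : wH p.2 ∈ tightD := Subgroup.subset_closure ⟨_, List.mem_flatMap.2 ⟨p, hp, by simp⟩, rfl⟩
    obtain ⟨e1, e2, e3, -, -⟩ := pair_facts hp
    obtain ⟨k1, k2⟩ := hf ⟨_, m1⟩ ⟨_, m2⟩
      (by rw [← map_mul, show (⟨_, m1⟩ : ↥tightD) * ⟨_, m1⟩ = 1 from Subtype.ext e1, map_one])
      (by rw [← map_mul, ← map_mul, show (⟨_, m2⟩ : ↥tightD) * ⟨_, m2⟩ * ⟨_, m2⟩ = 1 from Subtype.ext e2, map_one])
      (by rw [← map_mul, ← map_pow, show ((⟨_, m2⟩ : ↥tightD) * ⟨_, m1⟩) ^ 5 = 1 from Subtype.ext e3, map_one])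
    rcases hw' with rfl | rfl
    · exact ⟨⟨_, m1⟩, k1, rfl⟩
    · exact ⟨⟨_, m2⟩, k2, rfl⟩
  refine eq_top_iff.2 fun x _ => ?_
  obtain ⟨x', hx', e⟩ := h x.2
  exact (Subtype.ext e : x' = x) ▸ hx'

theorem tightD_tight : StdCo0.IsTight ↥tightD := by
  refine ⟨?_, fun N hN hodd => ?_⟩
  · rw [← Abelianization.ker_of ↥tightD]
    exact hom_trivial _ fun a b h1 h2 h3 => pair_comm h1 h2 h3 (mul_comm _ _)
  · rw [← QuotientGroup.ker_mk' N]
    exact hom_trivial _ fun a b => pair_odd (by rwa [← Subgroup.index_eq_card])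

/-- The word of a product of generators. -/
def rootW (l : List ℕ) : List ℕ := l.flatMap fun i => genX.getD i []

theorem rootW_mem : ∀ l : List ℕ, wH (rootW l) ∈ tightD
  | [] => one_mem _
  | i :: l => by
    rw [rootW, List.flatMap_cons, wH_append]
    refine mul_mem (rootW_mem l) ?_
    by_cases hi : i < genX.length
    · rw [List.getD_eq_getElem _ _ hi]
      exact Subgroup.subset_closure ⟨_, List.getElem_mem hi, rfl⟩
    · rw [List.getD_eq_default _ _ (by omega)]
      exact one_mem _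

theorem roots_ok : sameH (List.replicate 10 (rootW rootA)).flatten tcW = true ∧
    sameH (List.replicate 10 (rootW rootB)).flatten (tcW ++ [0, 0]) = true ∧
    diffW (List.replicate 4 (rootW rootA)).flatten [] = true ∧
    diffW (List.replicate 4 (rootW rootB)).flatten [] = true := by decide +kernel

theorem root_facts {l : List ℕ} {y : DoubleRu} (h10 : wH (rootW l) ^ 10 = y) (hy : y * y = 1)
    (h4 : diffW (List.replicate 4 (rootW l)).flatten [] = true) :
    ∃ d p : ↥tightD, (d : DoubleRu) * d = y ∧ (p : DoubleRu) ^ 5 = 1 ∧ (p : DoubleRu) ≠ 1 ∧ Commute d p := by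
  let Y : ↥tightD := ⟨wH (rootW l), rootW_mem l⟩
  refine ⟨Y ^ 5, Y ^ 4, ?_, ?_, fun h => ?_, (Commute.refl Y).pow_pow 5 4⟩
  · rw [SubmonoidClass.coe_pow, ← pow_add]; exact h10
  · rw [SubmonoidClass.coe_pow, ← pow_mul, show 4 * 5 = 10 * 2 from rfl, pow_mul, h10, pow_two, hy]
  · refine val_ne_of_diffW h4 ?_
    have hl : letters (List.replicate 4 (rootW l)).flatten = true := by
      simp only [diffW, Bool.and_eq_true] at h4; exact h4.1.1
    rw [← prH_wH hl, wH_replicate]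
    rw [SubmonoidClass.coe_pow] at h
    rw [h, map_one]
    rfl

/-- The witness. -/
theorem exists_witness {y : DoubleRu} (hy : y * y = 1) (h1 : y ≠ 1) (hz : y ≠ zH) :
    ∃ (D : Subgroup DoubleRu) (φ : ↥D →* DoubleRu), StdCo0.IsTight ↥D ∧ (∀ x, Commute (φ x) y) ∧
      ∃ d p : ↥D, φ d * φ d = y ∧ φ p ^ 5 = 1 ∧ φ p ≠ 1 ∧ Commute d p := by
  obtain ⟨k, hk⟩ := involution_conj hy h1 hz
  obtain ⟨r1, r2, r3, r4⟩ := roots_ok
  have htz : tH * zH * (tH * zH) = 1 := (mul_zH_sq tH).trans tH_sq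
  obtain ⟨d, p, hd, hp, hp1, hdp⟩ : ∃ d p : ↥tightD, (d : DoubleRu) * d = k * y * k⁻¹ ∧ (p : DoubleRu) ^ 5 = 1 ∧
      (p : DoubleRu) ≠ 1 ∧ Commute d p := by
    rcases hk with e | e <;> rw [e]
    · exact root_facts (l := rootA) (by rw [← wH_replicate, wH_of_sameH r1]; rfl) tH_sq r3
    · exact root_facts (l := rootB) (by rw [← wH_replicate, wH_of_sameH r2, wH_append, zH_comm]; rfl) htz r4
  let φ : ↥tightD →* DoubleRu := (MulAut.conj k⁻¹).toMonoidHom.comp tightD.subtype
  refine ⟨tightD, φ, tightD_tight, fun x => ?_, d, p, ?_, ?_, fun h => hp1 ?_, hdp⟩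
  · have hx : Commute (x : DoubleRu) (k * y * k⁻¹) := by
      rcases hk with e | e <;> rw [e]
      · exact tightD_commute x.2
      · exact (tightD_commute x.2).mul_right (zH_comm _)
    have e := hx.map (MulAut.conj k⁻¹).toMonoidHom
    rwa [show (MulAut.conj k⁻¹).toMonoidHom (k * y * k⁻¹) = y by
      show k⁻¹ * (k * y * k⁻¹) * k⁻¹⁻¹ = y; group] at e
  · rw [← map_mul]
    show k⁻¹ * ((d : DoubleRu) * d) * k⁻¹⁻¹ = y
    rw [hd]; group
  · show (k⁻¹ * (p : DoubleRu) * k⁻¹⁻¹) ^ 5 = 1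
    rw [conj_pow, hp, mul_one, mul_inv_cancel]
  · exact conj_eq_one_iff.1 (h : k⁻¹ * (p : DoubleRu) * k⁻¹⁻¹ = 1)

end Cfsg.Lib.StdRu
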